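import Mathlib

/-! A ring complete for a finitely generated ideal `I` with `A ⧸ I` noetherian is noetherian. -/

set_option autoImplicit false
universe u

namespace Groth.Agent.RegLocal

open MvPolynomial

variable {A : Type u} [CommRing A] {σ : Type} [Fintype σ]

theorem aeval_mem_span_pow (f : σ → A) {n : ℕ} {Q : MvPolynomial σ A} (hQ : Q.IsHomogeneous n) :
    aeval f Q ∈ (Ideal.span (Set.range f)) ^ n :=
  (Ideal.mem_span_pow_iff_exists_isHomogeneous f _).mpr ⟨Q, hQ, by simp [aeval_eq_eval]⟩

theorem aeval_mem_span_pow_succ (f : σ → A) {n : ℕ} {Q : MvPolynomial σ A} (hQ : Q.IsHomogeneous n)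
    (h0 : MvPolynomial.map (Ideal.Quotient.mk (Ideal.span (Set.range f))) Q = 0) :
    aeval f Q ∈ (Ideal.span (Set.range f)) ^ (n + 1) := by
  rw [Q.as_sum, map_sum]
  refine sum_mem fun d hd => ?_
  have hc : Q.coeff d ∈ Ideal.span (Set.range f) := by
    rw [← Ideal.Quotient.eq_zero_iff_mem, ← coeff_map, h0, coeff_zero]
  have hdeg : d.degree = n := by
    by_contra hne
    exact (mem_support_iff.mp hd) (hQ.coeff_eq_zero hne)
  have hm := aeval_mem_span_pow f (isHomogeneous_monomial (σ := σ) (1 : A) hdeg)
  have : aeval f (monomial d (Q.coeff d)) = Q.coeff d * aeval f (monomial d (1 : A)) := by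
    simp [aeval_monomial]
  rw [this, pow_succ']
  exact Ideal.mul_mem_mul hc hm

theorem homogeneousComponent_mul_of_isHomogeneous {R : Type u} [CommRing R] (h q : MvPolynomial σ R)
    {d : ℕ} (hq : q.IsHomogeneous d) (n : ℕ) :
    homogeneousComponent n (h * q) =
      if d ≤ n then homogeneousComponent (n - d) h * q else 0 := by
  conv_lhs => rw [← sum_homogeneousComponent h, Finset.sum_mul, map_sum]
  have hterm : ∀ i, homogeneousComponent n (homogeneousComponent i h * q) =
      if i + d = n then homogeneousComponent i h * q else 0 := by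
    intro i
    rw [homogeneousComponent_of_mem ((homogeneousComponent_isHomogeneous i h).mul hq)]
    split_ifs <;> first | rfl | omega
  simp only [hterm]
  split_ifs with hd
  · rw [Finset.sum_eq_single (n - d)]
    · rw [if_pos (by omega)]
    · intro i _ hi; rw [if_neg (by omega)]
    · intro hi
      rw [if_pos (by omega), homogeneousComponent_eq_zero, zero_mul]
      simp only [Finset.mem_range] at hi; omega
  · exact Finset.sum_eq_zero fun i _ => if_neg (by omega)

theorem map_homogeneousComponent {R S : Type u} [CommRing R] [CommRing S] (φ : R →+* S)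
    (p : MvPolynomial σ R) (n : ℕ) :
    MvPolynomial.map φ (homogeneousComponent n p) = homogeneousComponent n (MvPolynomial.map φ p) := by
  classical
  ext d
  simp only [coeff_map, coeff_homogeneousComponent]
  split_ifs <;> simp

/-- A ring which is complete for a finitely generated ideal with noetherian quotient is
noetherian. -/
theorem isNoetherianRing_of_isAdicComplete (I : Ideal A) (hI : I.FG) [IsAdicComplete I A]
    [IsNoetherianRing (A ⧸ I)] : IsNoetherianRing A := by
  classical
  obtain ⟨s, hs⟩ := hI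
  let e := Fintype.equivFin s
  let f : Fin (Fintype.card s) → A := fun i => (e.symm i : A)
  have hf : Ideal.span (Set.range f) = I := by
    rw [← hs]; congr 1; ext x; simp only [f, Set.mem_range]
    exact ⟨fun ⟨i, hi⟩ => hi ▸ (e.symm i).2, fun hx => ⟨e ⟨x, hx⟩, by simp⟩⟩
  subst hf
  set I := Ideal.span (Set.range f)
  refine (isNoetherianRing_iff_ideal_fg A).mpr fun J => ?_
  let red := MvPolynomial.map (σ := Fin (Fintype.card s)) (Ideal.Quotient.mk I)
  let L : Set (MvPolynomial (Fin (Fintype.card s)) (A ⧸ I)) :=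
    {q | ∃ n Q, Q.IsHomogeneous n ∧ red Q = q ∧ ∃ a ∈ J, a - aeval f Q ∈ I ^ (n + 1)}
  obtain ⟨T, hTL, hT⟩ := (Submodule.fg_span_iff_fg_span_finset_subset L).mp
    (IsNoetherian.noetherian (Ideal.span L))
  choose dd QQ hQh hQr aa haJ haI using fun q : T => hTL q.2
  have step : ∀ n, ∀ x ∈ J, x ∈ I ^ n → ∃ H : T → A, (∀ j, H j ∈ I ^ (n - dd j)) ∧
      x - ∑ j, H j * aa j ∈ I ^ (n + 1) := by
    intro n x hxJ hxn
    obtain ⟨Q, hQ, hQx⟩ := (Ideal.mem_span_pow_iff_exists_isHomogeneous f _).mp hxn
    have hQx' : aeval f Q = x := by rw [← hQx]; simp [aeval_eq_eval]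
    have hq : red Q ∈ Submodule.span (MvPolynomial (Fin (Fintype.card s)) (A ⧸ I))
        (T : Set (MvPolynomial (Fin (Fintype.card s)) (A ⧸ I))) := by
      rw [← hT]; exact Submodule.subset_span ⟨n, Q, hQ, rfl, x, hxJ, by simp [hQx']⟩
    obtain ⟨c, -, hc⟩ := Submodule.mem_span_finset.mp hq
    choose cl hcl using fun j : T => map_surjective _ Ideal.Quotient.mk_surjective (c j.1)
    let P : T → MvPolynomial (Fin (Fintype.card s)) A := fun j =>
      if dd j ≤ n then homogeneousComponent (n - dd j) (cl j) else 0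
    have hP : ∀ j, (P j).IsHomogeneous (n - dd j) := by
      intro j; simp only [P]; split_ifs
      · exact homogeneousComponent_isHomogeneous _ _
      · exact isHomogeneous_zero _ _ _
    have hPQ : ∀ j, (P j * QQ j).IsHomogeneous n := by
      intro j
      by_cases hd : dd j ≤ n
      · have := (hP j).mul (hQh j); rwa [Nat.sub_add_cancel hd] at this
      · simp only [P, if_neg hd, zero_mul]; exact isHomogeneous_zero _ _ _
    refine ⟨fun j => aeval f (P j), fun j => aeval_mem_span_pow f (hP j), ?_⟩
    have h1 : aeval f (Q - ∑ j, P j * QQ j) ∈ I ^ (n + 1) := by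
      refine aeval_mem_span_pow_succ f (hQ.sub (IsHomogeneous.sum _ _ _ fun j _ => hPQ j)) ?_
      have e1 : homogeneousComponent n (red Q) = ∑ j : T, red (P j * QQ j) := by
        rw [← hc, map_sum, ← Finset.sum_coe_sort]
        refine Finset.sum_congr rfl fun j _ => ?_
        rw [smul_eq_mul, homogeneousComponent_mul_of_isHomogeneous _ _
          (hQr j ▸ (hQh j).map _), map_mul, hQr]
        simp only [P]
        split_ifs
        · simp only [red, map_homogeneousComponent, hcl]
        · simp
      rw [homogeneousComponent_eq_self (hQ.map _)] at e1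
      rw [map_sub, map_sum, sub_eq_zero]; exact e1
    have h2 : ∑ j, aeval f (P j) * (aa j - aeval f (QQ j)) ∈ I ^ (n + 1) := by
      refine sum_mem fun j _ => ?_
      by_cases hd : dd j ≤ n
      · have := Ideal.mul_mem_mul (aeval_mem_span_pow f (hP j)) (haI j)
        rwa [← pow_add, show n - dd j + (dd j + 1) = n + 1 by omega] at this
      · simp [P, if_neg hd]
    have : x - ∑ j, aeval f (P j) * aa j =
        aeval f (Q - ∑ j, P j * QQ j) - ∑ j, aeval f (P j) * (aa j - aeval f (QQ j)) := by
      simp only [map_sub, map_sum, map_mul, mul_sub, Finset.sum_sub_distrib, hQx']; ring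
    rw [this]; exact sub_mem h1 h2
  choose H hH hstep using step
  refine ⟨Finset.univ.image aa, le_antisymm (Submodule.span_le.mpr fun x hx => ?_) fun x hx => ?_⟩
  · obtain ⟨j, -, rfl⟩ := Finset.mem_image.mp hx; exact haJ j
  let seq : ∀ n, {y : A // y ∈ J ∧ y ∈ I ^ n} := fun n => Nat.rec ⟨x, hx, by simp⟩
    (fun n y => ⟨y.1 - ∑ j, H n y.1 y.2.1 y.2.2 j * aa j,
      sub_mem y.2.1 (sum_mem fun j _ => J.mul_mem_left _ (haJ j)), hstep n y.1 y.2.1 y.2.2⟩) n
  let G : ℕ → T → A := fun n j => H n (seq n).1 (seq n).2.1 (seq n).2.2 j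
  let D := Finset.univ.sup dd
  let C : T → ℕ → A := fun j n => ∑ i ∈ Finset.range (n + D), G i j
  have hseq : ∀ n, x = (seq n).1 + ∑ j, (∑ i ∈ Finset.range n, G i j) * aa j := by
    intro n; induction n with
    | zero => simp [seq]
    | succ n ih =>
      simp only [Finset.sum_range_succ, add_mul, Finset.sum_add_distrib]
      show x = ((seq n).1 - ∑ j, G n j * aa j) + _
      rw [sub_add, sub_eq_add_neg, neg_sub, add_sub_cancel_right]; exact ih
  have hcau : ∀ j {m n : ℕ}, m ≤ n → C j n - C j m ∈ I ^ m := by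
    intro j m n hmn
    simp only [C]
    rw [← Finset.sum_Ico_eq_sub _ (by omega)]
    refine sum_mem fun i hi => Ideal.pow_le_pow_right ?_ (hH i _ _ _ j)
    have := Finset.le_sup (f := dd) (Finset.mem_univ j)
    simp only [Finset.mem_Ico, D] at hi ⊢; omega
  choose c hc using fun j => IsPrecomplete.prec (I := I) (M := A) inferInstance (f := C j)
    fun {m n} h => by
      rw [SModEq.comm, SModEq.sub_mem, smul_eq_mul, Ideal.mul_top]; exact hcau j h
  have hx0 : x - ∑ j, c j * aa j = 0 := by
    refine IsHausdorff.haus (I := I) inferInstance _ fun n => ?_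
    rw [SModEq.zero, smul_eq_mul, Ideal.mul_top]
    rw [hseq (n + D), add_sub_assoc, ← Finset.sum_sub_distrib]
    refine add_mem (Ideal.pow_le_pow_right (by omega) (seq (n + D)).2.2) (sum_mem fun j _ => ?_)
    rw [← sub_mul]
    refine Ideal.mul_mem_right _ _ ?_
    have := hc j n
    rwa [SModEq.sub_mem, smul_eq_mul, Ideal.mul_top] at this
  rw [sub_eq_zero.mp hx0]
  exact sum_mem fun j _ => Submodule.smul_mem _ _
    (Submodule.subset_span (Finset.mem_image.mpr ⟨j, Finset.mem_univ _, rfl⟩))

theorem isNoetherianRing_adicCompletion {R : Type u} [CommRing R] (I : Ideal R) (hI : I.FG)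
    [IsNoetherianRing (R ⧸ I)] : IsNoetherianRing (AdicCompletion I R) := by
  have := AdicCompletion.isAdicComplete_self I hI
  let g := (AdicCompletion.evalOneₐ I).toRingHom
  have hg : Function.Surjective g := AdicCompletion.evalOneₐ_surjective I
  have : IsNoetherianRing (AdicCompletion I R ⧸ I.map (algebraMap R (AdicCompletion I R))) :=
    isNoetherianRing_of_ringEquiv _ ((Ideal.quotEquivOfEq
      (AdicCompletion.ker_evalOneₐ_eq_map I hI).symm).trans
        (RingHom.quotientKerEquivOfSurjective hg)).symm
  exact isNoetherianRing_of_isAdicComplete (I.map (algebraMap R (AdicCompletion I R))) (hI.map _)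

end Groth.Agent.RegLocal
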