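import Mathlib
import Groth.Agent.RegLocal.Complete

/-! Basic theory of regular local rings. -/

set_option autoImplicit false
universe u

namespace Groth.Agent.RegLocal

open IsLocalRing

variable {R : Type u} [CommRing R] [IsLocalRing R] [IsNoetherianRing R]

variable (R) in
theorem exists_nat_ringKrullDim : ∃ e : ℕ, ringKrullDim R = e := by
  have h := ringKrullDim_le_spanFinrank_maximalIdeal R
  have h0 := ringKrullDim_nonneg_of_nontrivial (R := R)
  obtain ⟨a, ha⟩ := WithBot.ne_bot_iff_exists.mp (ne_bot_of_le_ne_bot (by simp) h0)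
  rw [← ha] at h
  rw [← WithBot.coe_natCast, WithBot.coe_le_coe] at h
  obtain ⟨e, rfl⟩ := ENat.ne_top_iff_exists.mp (ne_top_of_le_ne_top (ENat.coe_ne_top _) h)
  exact ⟨e, by rw [← ha]; rfl⟩

variable (R) in
theorem exists_generators : ∃ x : Fin (maximalIdeal R).spanFinrank → R,
    Ideal.span (Set.range x) = maximalIdeal R := by
  classical
  obtain ⟨s, hs, hsp⟩ := Submodule.FG.exists_span_finset_card_eq_spanFinrank
    (maximalIdeal R).fg_of_isNoetherianRing
  let e : Fin (maximalIdeal R).spanFinrank ≃ s := (finCongr hs.symm).trans s.equivFin.symm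
  refine ⟨fun i => (e i : R), ?_⟩
  conv_rhs => rw [← hsp]
  show Ideal.span _ = Ideal.span _
  congr 1; ext y; simp only [Set.mem_range]
  exact ⟨fun ⟨i, hi⟩ => hi ▸ (e i).2, fun hy => ⟨e.symm ⟨y, hy⟩, by simp⟩⟩

theorem isLocalRing_quot {I : Ideal R} (hI : I ≠ ⊤) : IsLocalRing (R ⧸ I) := by
  have : Nontrivial (R ⧸ I) := Ideal.Quotient.nontrivial_iff.mpr hI
  exact IsLocalRing.of_surjective' _ Ideal.Quotient.mk_surjective

theorem maximalIdeal_quot {I : Ideal R} (hI : I ≠ ⊤) [IsLocalRing (R ⧸ I)] :
    maximalIdeal (R ⧸ I) = (maximalIdeal R).map (Ideal.Quotient.mk I) := by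
  refine (eq_maximalIdeal ?_).symm
  refine (Ideal.map_eq_top_or_isMaximal_of_surjective _ Ideal.Quotient.mk_surjective
    inferInstance).resolve_left fun h => hI ?_
  have := Ideal.comap_map_of_surjective (Ideal.Quotient.mk I) Ideal.Quotient.mk_surjective
    (maximalIdeal R)
  rw [h, Ideal.comap_top, ← RingHom.ker_eq_comap_bot, Ideal.mk_ker,
    sup_eq_left.mpr (le_maximalIdeal hI)] at this
  exact absurd this.symm (maximalIdeal.isMaximal R).ne_top

/-- If `R` is regular with generators `x` of the maximal ideal, the quotient by any part of them is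
regular. -/
theorem quot_span_image {d : ℕ} (hd : ringKrullDim R = d) (x : Fin d → R)
    (hx : Ideal.span (Set.range x) = maximalIdeal R) (s : Finset (Fin d)) :
    IsRegularLocalRing (R ⧸ Ideal.span (x '' (s : Set (Fin d)))) ∧
      ringKrullDim (R ⧸ Ideal.span (x '' (s : Set (Fin d)))) = ((d - s.card : ℕ) : WithBot ℕ∞) := by
  classical
  set I := Ideal.span (x '' (s : Set (Fin d))) with hIdef
  have hle : I ≤ maximalIdeal R := hx ▸ Ideal.span_mono (Set.image_subset_range _ _)
  have hI : I ≠ ⊤ := fun h => (maximalIdeal.isMaximal R).ne_top (top_le_iff.mp (h ▸ hle))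
  have := isLocalRing_quot hI
  have hgen : maximalIdeal (R ⧸ I) = Ideal.span ((Ideal.Quotient.mk I ∘ x) '' ((sᶜ : Finset _) : Set (Fin d))) := by
    rw [maximalIdeal_quot hI, ← hx, Ideal.map_span, ← Set.range_comp]
    refine le_antisymm (Ideal.span_le.mpr ?_) (Ideal.span_mono (Set.image_subset_range _ _))
    rintro _ ⟨i, rfl⟩
    by_cases hi : i ∈ s
    · have : Ideal.Quotient.mk I (x i) = 0 :=
        Ideal.Quotient.eq_zero_iff_mem.mpr (Ideal.subset_span ⟨i, hi, rfl⟩)
      simp [this]
    · exact Ideal.subset_span ⟨i, by simpa using hi, rfl⟩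
  have hrank : (maximalIdeal (R ⧸ I)).spanFinrank ≤ d - s.card := by
    rw [hgen]
    refine (Submodule.spanFinrank_span_le_ncard_of_finite (Set.toFinite _)).trans ?_
    refine (Set.ncard_image_le (Set.toFinite _)).trans ?_
    rw [Set.ncard_coe_finset, Finset.card_compl, Fintype.card_fin]
  obtain ⟨e, he⟩ := exists_nat_ringKrullDim (R ⧸ I)
  have h1 := ringKrullDim_le_ringKrullDim_quotient_add_spanFinrank I
    (by rw [IsLocalRing.ringJacobson_eq_maximalIdeal]; exact hle)
  have h2 : I.spanFinrank ≤ s.card := by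
    refine (Submodule.spanFinrank_span_le_ncard_of_finite (Set.toFinite _)).trans ?_
    exact (Set.ncard_image_le (Set.toFinite _)).trans_eq (Set.ncard_coe_finset s)
  rw [he, hd] at h1
  have h1' : d ≤ e + I.spanFinrank := by exact_mod_cast h1
  have h3 := ringKrullDim_le_spanFinrank_maximalIdeal (R ⧸ I)
  rw [he] at h3
  have h3' : e ≤ (maximalIdeal (R ⧸ I)).spanFinrank := by exact_mod_cast h3
  have hee : e = d - s.card := by omega
  refine ⟨IsRegularLocalRing.of_spanFinrank_maximalIdeal_le _ ?_, by rw [he, hee]⟩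
  rw [he, hee]; exact_mod_cast hrank

theorem exists_generators_extending {x : R} (hx : x ∈ maximalIdeal R)
    (hx2 : x ∉ maximalIdeal R ^ 2) : ∃ (y : Fin (maximalIdeal R).spanFinrank → R) (i : _),
      y i = x ∧ Ideal.span (Set.range y) = maximalIdeal R := by
  classical
  obtain ⟨z, hz⟩ := exists_generators R
  have hx' := hx
  rw [← hz, Ideal.mem_span_range_iff_exists_fun] at hx'
  obtain ⟨c, hc⟩ := hx'
  obtain ⟨i, hi⟩ : ∃ i, IsUnit (c i) := by
    by_contra! hall
    refine hx2 (hc ▸ sum_mem fun i _ => ?_)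
    rw [sq]; exact Ideal.mul_mem_mul (hall i) (hz ▸ Ideal.subset_span (Set.mem_range_self i))
  refine ⟨Function.update z i x, i, by simp, le_antisymm (Ideal.span_le.mpr ?_) ?_⟩
  · rintro _ ⟨j, rfl⟩
    rcases eq_or_ne j i with rfl | hj
    · simpa using hx
    · rw [Function.update_of_ne hj]; exact hz ▸ Ideal.subset_span (Set.mem_range_self j)
  · set S := Ideal.span (Set.range (Function.update z i x))
    rw [← hz, Ideal.span_le]
    have hmem : ∀ j, j ≠ i → z j ∈ S := fun j hj =>
      Ideal.subset_span ⟨j, Function.update_of_ne hj _ _⟩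
    rintro _ ⟨j, rfl⟩
    rcases eq_or_ne j i with rfl | hj
    · rw [← Finset.add_sum_erase _ _ (Finset.mem_univ j)] at hc
      have hxS : x ∈ S := Ideal.subset_span ⟨j, Function.update_self _ _ _⟩
      have : c j * z j ∈ S := by
        rw [eq_sub_of_add_eq hc]
        exact sub_mem hxS (sum_mem fun k hk => S.mul_mem_left _ (hmem k (Finset.ne_of_mem_erase hk)))
      exact (Ideal.unit_mul_mem_iff_mem _ hi).mp this
    · exact hmem j hj

section Regular

variable (R : Type u) [CommRing R] [IsRegularLocalRing R]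

theorem quot_singleton {d : ℕ} (hd : ringKrullDim R = d) {x : R}
    (hx : x ∈ maximalIdeal R) (hx2 : x ∉ maximalIdeal R ^ 2) :
    IsRegularLocalRing (R ⧸ Ideal.span {x}) ∧ 1 ≤ d ∧
      ringKrullDim (R ⧸ Ideal.span {x}) = ((d - 1 : ℕ) : WithBot ℕ∞) := by
  obtain ⟨y, i, hyi, hy⟩ := exists_generators_extending hx hx2
  have hn : (maximalIdeal R).spanFinrank = d := by
    have := IsRegularLocalRing.spanFinrank_maximalIdeal (R := R)
    rw [hd] at this; exact_mod_cast this
  revert y i
  rw [hn]
  intro y i hyi hy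
  have := quot_span_image hd y hy {i}
  rw [Finset.coe_singleton, Set.image_singleton, hyi, Finset.card_singleton] at this
  exact ⟨this.1, i.pos, this.2⟩

theorem isDomain_aux : ∀ (d : ℕ) (R : Type u) [CommRing R] [IsRegularLocalRing R],
    ringKrullDim R = d → IsDomain R := by
  intro d
  induction d using Nat.strong_induction_on with
  | _ d ih =>
    intro R _ _ hd
    have hn := IsRegularLocalRing.spanFinrank_maximalIdeal (R := R)
    rw [hd] at hn
    have hn' : (maximalIdeal R).spanFinrank = d := by exact_mod_cast hn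
    rcases Nat.eq_zero_or_pos d with rfl | hpos
    · have hbot : maximalIdeal R = ⊥ :=
        (Submodule.spanFinrank_eq_zero_iff_eq_bot (maximalIdeal R).fg_of_isNoetherianRing).mp hn'
      exact (IsLocalRing.isField_iff_maximalIdeal_eq.mpr hbot).isDomain
    classical
    have hfin := minimalPrimes.finite_of_isNoetherianRing R
    have hm2 : ¬ maximalIdeal R ≤ maximalIdeal R ^ 2 := fun h => by
      have hbot : maximalIdeal R = ⊥ :=
        Submodule.eq_bot_of_le_smul_of_le_jacobson_bot _ _ (maximalIdeal R).fg_of_isNoetherianRing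
          (by rwa [smul_eq_mul, ← sq]) (maximalIdeal_le_jacobson _)
      rw [hbot, Submodule.spanFinrank_bot] at hn'; omega
    have hnotmin : ∀ p ∈ minimalPrimes R, ¬ maximalIdeal R ≤ p := by
      intro p hp h
      have : p.IsPrime := hp.1.1
      have heq : maximalIdeal R = p := (maximalIdeal.isMaximal R).eq_of_le this.ne_top h
      have := Ideal.height_eq_zero_iff.mpr hp
      rw [← heq] at this
      have h2 := IsLocalRing.maximalIdeal_height_eq_ringKrullDim (R := R)
      rw [this, hd] at h2
      have : (0:ℕ) = d := by exact_mod_cast h2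
      omega
    obtain ⟨x, hxm, hx⟩ : ∃ x ∈ maximalIdeal R, x ∉ maximalIdeal R ^ 2 ∧
        ∀ p ∈ minimalPrimes R, x ∉ p := by
      by_contra! hcon
      have hsub : (maximalIdeal R : Set R) ⊆
          ⋃ p ∈ ((insert (maximalIdeal R ^ 2) hfin.toFinset : Finset (Ideal R)) : Set (Ideal R)),
            (p : Set R) := by
        intro x hx
        by_cases h2 : x ∈ maximalIdeal R ^ 2
        · exact Set.mem_biUnion (by simp) h2
        · obtain ⟨p, hp, hxp⟩ := hcon x hx h2
          exact Set.mem_biUnion (by simp [hp]) hxp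
      obtain ⟨p, hp, hle⟩ := (Ideal.subset_union_prime (maximalIdeal R ^ 2) (maximalIdeal R ^ 2)
        (fun p hp hne _ => by
          rcases Finset.mem_insert.mp hp with rfl | hp
          · exact absurd rfl hne
          · exact (hfin.mem_toFinset.mp hp).1.1)).mp hsub
      rcases Finset.mem_insert.mp hp with rfl | hp
      · exact hm2 hle
      · exact hnotmin p (hfin.mem_toFinset.mp hp) hle
    obtain ⟨hreg, -, hdim⟩ := quot_singleton R hd hxm hx.1
    have hdom := ih (d - 1) (by omega) (R ⧸ Ideal.span {x}) hdim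
    have hP : (Ideal.span {x}).IsPrime := (Ideal.Quotient.isDomain_iff_prime _).mp hdom
    obtain ⟨p, hp, hpx⟩ := Ideal.exists_minimalPrimes_le (J := Ideal.span {x}) (I := ⊥) bot_le
    have hxp : x ∉ p := hx.2 p hp
    have : p.IsPrime := hp.1.1
    have hle : p ≤ maximalIdeal R • p := by
      intro y hy
      obtain ⟨a, rfl⟩ := Ideal.mem_span_singleton'.mp (hpx hy)
      rw [smul_eq_mul, mul_comm a x]
      exact Ideal.mul_mem_mul hxm ((this.mem_or_mem hy).resolve_right hxp)
    have hp0 : p = ⊥ := Submodule.eq_bot_of_le_smul_of_le_jacobson_bot _ _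
      p.fg_of_isNoetherianRing hle (maximalIdeal_le_jacobson _)
    rw [hp0] at this
    have hnzd : NoZeroDivisors R := ⟨fun {a b} h => by simpa using this.mem_or_mem (Ideal.mem_bot.mpr h)⟩
    exact NoZeroDivisors.to_isDomain R

theorem isDomain : IsDomain R := by
  obtain ⟨d, hd⟩ := exists_nat_ringKrullDim R
  exact isDomain_aux d R hd

theorem isRegular_of_generators {d : ℕ} (hd : ringKrullDim R = d) (x : Fin d → R)
    (hx : Ideal.span (Set.range x) = maximalIdeal R) :
    RingTheory.Sequence.IsRegular R (List.ofFn x) := by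
  classical
  constructor
  · rw [RingTheory.Sequence.isWeaklyRegular_iff]
    intro i hi
    rw [List.length_ofFn] at hi
    set s : Finset (Fin d) := Finset.univ.filter fun j : Fin d => (j : ℕ) < i with hs
    have hof : Ideal.ofList ((List.ofFn x).take i) = Ideal.span (x '' (s : Set (Fin d))) := by
      rw [Ideal.ofList]; congr 1; ext y
      simp only [Set.mem_setOf_eq, List.mem_take_iff_getElem, List.length_ofFn, Set.mem_image,
        hs, Finset.coe_filter, Finset.mem_univ, true_and, List.getElem_ofFn]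
      exact ⟨fun ⟨j, hj, h⟩ => ⟨⟨j, by omega⟩, by show j < i; omega, h⟩,
        fun ⟨j, hj, h⟩ => ⟨j.1, by have := j.2; omega, h⟩⟩
    rw [hof, show ((List.ofFn x)[i] : R) = x ⟨i, hi⟩ by simp]
    obtain ⟨hreg, hdim⟩ := quot_span_image hd x hx s
    have := isDomain_aux _ _ hdim
    intro a b hab
    obtain ⟨a, rfl⟩ := Submodule.Quotient.mk_surjective _ a
    obtain ⟨b, rfl⟩ := Submodule.Quotient.mk_surjective _ b
    simp only [← Submodule.Quotient.mk_smul, Submodule.Quotient.eq, smul_eq_mul, Ideal.mul_top,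
      ← mul_sub] at hab ⊢
    refine ((Ideal.Quotient.isDomain_iff_prime _).mp this).mem_or_mem hab |>.resolve_left ?_
    intro hmem
    have hins := (quot_span_image hd x hx (insert ⟨i, hi⟩ s)).2
    have heq : Ideal.span (x '' ((insert ⟨i, hi⟩ s : Finset (Fin d)) : Set (Fin d))) =
        Ideal.span (x '' (s : Set (Fin d))) := by
      rw [Finset.coe_insert, Set.image_insert_eq, Ideal.span_insert, sup_eq_right,
        Ideal.span_singleton_le_iff_mem]
      exact hmem
    rw [ringKrullDim_eq_of_ringEquiv (Ideal.quotEquivOfEq heq), hdim] at hins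
    have hins' : d - s.card = d - (insert ⟨i, hi⟩ s).card := by exact_mod_cast hins
    rw [Finset.card_insert_of_notMem (by simp [hs])] at hins'
    have hlt : s.card < d := by
      refine (Finset.card_lt_card (t := Finset.univ) (Finset.ssubset_univ_iff.mpr fun h => ?_)).trans_eq (by simp)
      have := h ▸ Finset.mem_univ (⟨i, hi⟩ : Fin d)
      simp [hs] at this
    omega
  · rw [show Ideal.ofList (List.ofFn x) = maximalIdeal R by
      rw [← hx, Ideal.ofList]; congr 1; ext y; simp [List.mem_ofFn]]
    rw [smul_eq_mul, Ideal.mul_top]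
    exact (maximalIdeal.isMaximal R).ne_top.symm

end Regular

theorem isRegularLocalRing_of_quot_regular {x : R} (hx : x ∈ maximalIdeal R)
    (hreg : x ∈ nonZeroDivisors R) [IsRegularLocalRing (R ⧸ Ideal.span ({x} : Set R))] :
    IsRegularLocalRing R := by
  classical
  set I := Ideal.span ({x} : Set R)
  obtain ⟨z, hz⟩ := exists_generators (R ⧸ I)
  choose y hy using fun i => Ideal.Quotient.mk_surjective (z i)
  refine IsRegularLocalRing.of_spanFinrank_maximalIdeal_le _ ?_
  rw [← ringKrullDim_quotient_span_singleton_succ_eq_ringKrullDim_of_mem_nonZeroDivisors hreg hx,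
    ← IsRegularLocalRing.spanFinrank_maximalIdeal (R := R ⧸ I)]
  have hI : I ≠ ⊤ := Ideal.span_singleton_ne_top hx
  have hle : maximalIdeal R ≤ Ideal.span (insert x (Set.range y)) := by
    have hmap : (maximalIdeal R).map (Ideal.Quotient.mk I) = (Ideal.span (Set.range y)).map (Ideal.Quotient.mk I) := by
      rw [Ideal.map_span, ← Set.range_comp, show (Ideal.Quotient.mk I ∘ y) = z from funext hy, hz]
      exact (maximalIdeal_quot hI).symm
    intro a ha
    have : Ideal.Quotient.mk I a ∈ (Ideal.span (Set.range y)).map (Ideal.Quotient.mk I) :=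
      hmap ▸ Ideal.mem_map_of_mem _ ha
    obtain ⟨b, hb, hab⟩ := (Ideal.mem_map_iff_of_surjective _ Ideal.Quotient.mk_surjective).mp this
    rw [Ideal.Quotient.eq] at hab
    rw [Ideal.span_insert, show a = b - (b - a) by ring]
    exact sub_mem (Submodule.mem_sup_right hb) (Submodule.mem_sup_left hab)
  have hge : Ideal.span (insert x (Set.range y)) ≤ maximalIdeal R := by
    rw [Ideal.span_le, Set.insert_subset_iff]
    refine ⟨hx, ?_⟩
    rintro _ ⟨i, rfl⟩
    by_contra hu
    have hu' : IsUnit (y i) := by simpa using hu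
    have : z i ∈ maximalIdeal (R ⧸ I) := hz ▸ Ideal.subset_span (Set.mem_range_self i)
    exact (maximalIdeal.isMaximal _).ne_top (Ideal.eq_top_of_isUnit_mem _ this (hy i ▸ hu'.map _))
  have hb : (maximalIdeal R).spanFinrank ≤ (maximalIdeal (R ⧸ I)).spanFinrank + 1 := by
    rw [le_antisymm hle hge]
    refine (Submodule.spanFinrank_span_le_ncard_of_finite (Set.toFinite _)).trans ?_
    refine (Set.ncard_insert_le _ _).trans ?_
    gcongr
    rw [← Set.image_univ]
    exact (Set.ncard_image_le (Set.toFinite _)).trans_eq (by simp)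
  exact_mod_cast hb

/-- If `p` is generated by `height p` elements and `R ⧸ p` is regular, then `R` is regular. -/
theorem isRegularLocalRing_of_quot_of_spanFinrank_eq_height (p : Ideal R) [p.IsPrime]
    [IsRegularLocalRing (R ⧸ p)] (hgen : (Submodule.spanFinrank p : ℕ∞) = p.height) :
    IsRegularLocalRing R := by
  classical
  obtain ⟨g, hg, hgp⟩ := Submodule.FG.exists_span_finset_card_eq_spanFinrank p.fg_of_isNoetherianRing
  obtain ⟨z, hz⟩ := exists_generators (R ⧸ p)
  choose y hy using fun i => Ideal.Quotient.mk_surjective (z i)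
  have hpm : p ≤ maximalIdeal R := le_maximalIdeal Ideal.IsPrime.ne_top'
  have hle : maximalIdeal R ≤ Ideal.span ((g : Set R) ∪ Set.range y) := by
    intro a ha
    have : Ideal.Quotient.mk p a ∈ (Ideal.span (Set.range y)).map (Ideal.Quotient.mk p) := by
      rw [Ideal.map_span, ← Set.range_comp, show (Ideal.Quotient.mk p ∘ y) = z from funext hy, hz,
        maximalIdeal_quot Ideal.IsPrime.ne_top']
      exact Ideal.mem_map_of_mem _ ha
    obtain ⟨b, hb, hab⟩ := (Ideal.mem_map_iff_of_surjective _ Ideal.Quotient.mk_surjective).mp this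
    rw [Ideal.Quotient.eq, ← hgp] at hab
    rw [Ideal.span_union, show a = b - (b - a) by ring]
    exact sub_mem (Submodule.mem_sup_right hb) (Submodule.mem_sup_left hab)
  have hge : Ideal.span ((g : Set R) ∪ Set.range y) ≤ maximalIdeal R := by
    rw [Ideal.span_le, Set.union_subset_iff]
    refine ⟨fun a ha => hpm (hgp.le (Submodule.subset_span ha)), ?_⟩
    rintro _ ⟨i, rfl⟩
    by_contra hu
    have hu' : IsUnit (y i) := by simpa using hu
    have : z i ∈ maximalIdeal (R ⧸ p) := hz ▸ Ideal.subset_span (Set.mem_range_self i)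
    exact (maximalIdeal.isMaximal _).ne_top (Ideal.eq_top_of_isUnit_mem _ this (hy i ▸ hu'.map _))
  have hb : (maximalIdeal R).spanFinrank ≤
      Submodule.spanFinrank p + (maximalIdeal (R ⧸ p)).spanFinrank := by
    rw [le_antisymm hle hge]
    refine (Submodule.spanFinrank_span_le_ncard_of_finite (Set.toFinite _)).trans ?_
    refine (Set.ncard_union_le _ _).trans ?_
    rw [Set.ncard_coe_finset, hg, ← Set.image_univ]
    gcongr
    exact (Set.ncard_image_le (Set.toFinite _)).trans_eq (by simp)
  refine IsRegularLocalRing.of_spanFinrank_maximalIdeal_le _ ?_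
  calc ((maximalIdeal R).spanFinrank : WithBot ℕ∞)
      ≤ (Submodule.spanFinrank p : WithBot ℕ∞) + (maximalIdeal (R ⧸ p)).spanFinrank := by
        exact_mod_cast hb
    _ = (p.height : WithBot ℕ∞) + ringKrullDim (R ⧸ p) := by
        rw [IsRegularLocalRing.spanFinrank_maximalIdeal, ← hgen]; rfl
    _ ≤ ringKrullDim R := ?_
  have hlt := Ideal.exists_ltSeries_length_eq_height p
  obtain ⟨l, hl, hlen⟩ := hlt
  obtain ⟨e, he⟩ := exists_nat_ringKrullDim (R ⧸ p)
  obtain ⟨l2, hl2⟩ : ∃ l2 : LTSeries (PrimeSpectrum (R ⧸ p)), l2.length = e :=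
    Order.le_krullDim_iff.mp (by rw [← ringKrullDim, he])
  rw [he, ← hlen]
  let l2' := l2.map (PrimeSpectrum.comap (Ideal.Quotient.mk p))
    (RingHom.strictMono_comap_of_surjective Ideal.Quotient.mk_surjective)
  have hhead : l.last ≤ l2'.head := by
    rw [hl, ← PrimeSpectrum.asIdeal_le_asIdeal, LTSeries.head_map, PrimeSpectrum.comap_asIdeal]
    intro a ha
    rw [Ideal.mem_comap, Ideal.Quotient.eq_zero_iff_mem.mpr ha]; exact zero_mem _
  rcases hhead.eq_or_lt with heq | hlt2
  · have := Order.LTSeries.length_le_krullDim (l.smash l2' heq)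
    simp only [RelSeries.smash_length, l2', LTSeries.map_length, hl2] at this
    simpa [ringKrullDim] using this
  · have := Order.LTSeries.length_le_krullDim (l.append l2' hlt2)
    simp only [RelSeries.append_length, l2', LTSeries.map_length, hl2] at this
    refine le_trans ?_ this
    norm_cast; omega

/-- If `R` and `R ⧸ I` are regular, `I` is generated by part of a minimal generating system. -/
theorem exists_generators_of_quot_regular (R : Type u) [CommRing R] [IsRegularLocalRing R] {d : ℕ}
    (hd : ringKrullDim R = d) (I : Ideal R) [IsRegularLocalRing (R ⧸ I)] :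
    ∃ (x : Fin d → R) (c : ℕ) (hc : c ≤ d), Ideal.span (Set.range x) = maximalIdeal R ∧
      I = Ideal.span (Set.range (fun i : Fin c => x (Fin.castLE hc i))) := by
  classical
  have hI : I ≠ ⊤ := Ideal.Quotient.nontrivial_iff.mp inferInstance
  obtain ⟨e, he⟩ := exists_nat_ringKrullDim (R ⧸ I)
  have hne : (maximalIdeal (R ⧸ I)).spanFinrank = e := by
    have := IsRegularLocalRing.spanFinrank_maximalIdeal (R := R ⧸ I); rw [he] at this
    exact_mod_cast this
  have hnd : (maximalIdeal R).spanFinrank = d := by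
    have := IsRegularLocalRing.spanFinrank_maximalIdeal (R := R); rw [hd] at this
    exact_mod_cast this
  let m := maximalIdeal R
  let k := ResidueField R
  let W : Submodule k (CotangentSpace R) :=
    Submodule.span k ((m.toCotangent) '' {a : m | (a : R) ∈ I})
  obtain ⟨zq, hzq⟩ := exists_generators (R ⧸ I)
  choose y hy using fun i => Ideal.Quotient.mk_surjective (zq i)
  have hym : ∀ i, y i ∈ m := fun i => by
    by_contra hu
    have hu' : IsUnit (y i) := by simpa [m] using hu
    have : zq i ∈ maximalIdeal (R ⧸ I) := hzq ▸ Ideal.subset_span (Set.mem_range_self i)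
    exact (maximalIdeal.isMaximal _).ne_top (Ideal.eq_top_of_isUnit_mem _ this (hy i ▸ hu'.map _))
  let V : Submodule k (CotangentSpace R) :=
    Submodule.span k (Set.range fun i => m.toCotangent ⟨y i, hym i⟩)
  obtain ⟨c, w, hwI, hw⟩ : ∃ (c : ℕ) (w : Fin c → m), (∀ i, (w i : R) ∈ I) ∧
      c + e ≤ d ∧ m = Ideal.span (Set.range (fun i => (w i : R)) ∪ Set.range y) := by
    have hWV : W ⊔ V = ⊤ := by
      refine top_le_iff.mp fun v _ => ?_
      obtain ⟨a, rfl⟩ := m.toCotangent_surjective v
      have : Ideal.Quotient.mk I (a : R) ∈ Ideal.span (Set.range zq) := by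
        rw [hzq, maximalIdeal_quot hI]; exact Ideal.mem_map_of_mem _ a.2
      rw [show zq = Ideal.Quotient.mk I ∘ y from funext fun i => (hy i).symm, Set.range_comp,
        ← Ideal.map_span] at this
      obtain ⟨b, hb, hab⟩ := (Ideal.mem_map_iff_of_surjective _ Ideal.Quotient.mk_surjective).mp this
      rw [Ideal.Quotient.eq] at hab
      rw [Ideal.mem_span_range_iff_exists_fun] at hb
      obtain ⟨q, rfl⟩ := hb
      have hm' : (∑ i, q i * y i) - a ∈ m := le_maximalIdeal hI hab
      have : a = ∑ i, q i • (⟨y i, hym i⟩ : m) - ⟨_, hm'⟩ := by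
        apply Subtype.ext
        simp only [AddSubgroupClass.coe_sub, AddSubmonoidClass.coe_finsetSum, SetLike.val_smul, smul_eq_mul]
        ring
      rw [this, map_sub, map_sum]
      refine sub_mem (sum_mem fun i _ => ?_) (Submodule.mem_sup_left (Submodule.subset_span ⟨_, hab, rfl⟩))
      rw [map_smul, ← algebraMap_smul k (q i)]
      exact Submodule.smul_mem _ _ (Submodule.mem_sup_right (Submodule.subset_span ⟨i, rfl⟩))
    obtain ⟨W', hW'le, hW'⟩ : ∃ W' ≤ W, IsCompl W' V := by
      obtain ⟨W', h1, h2⟩ := Submodule.exists_isCompl (W ⊓ V : Submodule k _)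
      refine ⟨W' ⊓ W, inf_le_right, ?_, ?_⟩
      · rw [disjoint_iff, inf_assoc, inf_comm]
        exact disjoint_iff.mp h1
      · rw [codisjoint_iff]
        refine top_le_iff.mp (hWV ▸ sup_le ?_ le_sup_right)
        intro v hv
        obtain ⟨a, ha, b, hb, rfl⟩ := Submodule.mem_sup.mp ((codisjoint_iff.mp h2).ge (Submodule.mem_top (x := v)))
        exact add_mem (Submodule.mem_sup_right ha.2) (Submodule.mem_sup_left ⟨hb, (by simpa using sub_mem hv ha.1)⟩)
    have hVdim : Module.finrank k V = e := by
      have hle : Module.finrank k V ≤ e := (finrank_range_le_card _).trans_eq (by simp [hne])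
      refine le_antisymm hle ?_
      rw [← hne, spanFinrank_maximalIdeal_eq_finrank_cotangentSpace]
      let φ : CotangentSpace R →ₗ[R] CotangentSpace (R ⧸ I) :=
        Ideal.mapCotangent m (maximalIdeal (R ⧸ I)) (Ideal.Quotient.mkₐ R I) (by
          rw [maximalIdeal_quot hI]; exact Ideal.le_comap_map)
      let b := Module.finBasis k V
      refine le_trans ?_ (le_of_eq (Fintype.card_fin _))
      rw [Module.finrank_eq_spanFinrank_of_free]
      refine le_trans ?_ (le_trans (Submodule.spanFinrank_span_le_ncard_of_finite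
        (R := ResidueField (R ⧸ I)) (s := Set.range fun i => φ (b i : CotangentSpace R)) (Set.finite_range _))
          ((Set.image_univ ▸ Set.ncard_image_le (Set.toFinite _)).trans_eq (by simp)))
      refine le_of_eq (congrArg _ (le_antisymm ?_ le_top))
      intro v _
      obtain ⟨⟨a, ha⟩, rfl⟩ := (maximalIdeal (R ⧸ I)).toCotangent_surjective v
      have ha' := ha
      rw [← hzq, Ideal.mem_span_range_iff_exists_fun] at ha'
      obtain ⟨q, hq⟩ := ha'
      have : (⟨a, ha⟩ : maximalIdeal (R ⧸ I)) = ∑ i, q i • ⟨zq i, hzq ▸ Ideal.subset_span (Set.mem_range_self i)⟩ := by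
        apply Subtype.ext; simp [AddSubmonoidClass.coe_finsetSum, hq]
      rw [this, map_sum]
      refine sum_mem fun i _ => ?_
      rw [map_smul, ← algebraMap_smul (ResidueField (R ⧸ I)) (q i)]
      refine Submodule.smul_mem _ _ ?_
      have hi : (maximalIdeal (R ⧸ I)).toCotangent ⟨zq i, hzq ▸ Ideal.subset_span (Set.mem_range_self i)⟩
          = φ (m.toCotangent ⟨y i, hym i⟩) := by
        simp only [φ, Ideal.mapCotangent_toCotangent]
        congr 1; exact Subtype.ext (hy i).symm
      rw [hi]
      have hmemV : m.toCotangent ⟨y i, hym i⟩ ∈ V := Submodule.subset_span ⟨i, rfl⟩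
      have hb := congrArg Subtype.val (b.sum_repr ⟨_, hmemV⟩).symm
      simp only [AddSubmonoidClass.coe_finsetSum, SetLike.val_smul] at hb
      rw [hb, map_sum]
      refine sum_mem fun j _ => ?_
      obtain ⟨r, hr⟩ := residue_surjective (b.repr ⟨_, hmemV⟩ j)
      rw [← hr, show residue R r • (b j : CotangentSpace R) = r • (b j : CotangentSpace R) from algebraMap_smul k r _,
        map_smul, ← algebraMap_smul (R ⧸ I) r, ← algebraMap_smul (ResidueField (R ⧸ I)) (algebraMap R (R ⧸ I) r)]
      exact Submodule.smul_mem _ _ (Submodule.subset_span ⟨j, rfl⟩)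
    have hWpre : ∀ v ∈ W, ∃ a : m, (a : R) ∈ I ∧ m.toCotangent a = v := by
      intro v hv
      induction hv using Submodule.span_induction with
      | mem v hv => obtain ⟨a, ha, rfl⟩ := hv; exact ⟨a, ha, rfl⟩
      | zero => exact ⟨0, by simp, by simp⟩
      | add v w _ _ h1 h2 =>
        obtain ⟨a, ha, rfl⟩ := h1; obtain ⟨a', ha', rfl⟩ := h2
        exact ⟨a + a', add_mem ha ha', map_add _ _ _⟩
      | smul r v _ h =>
        obtain ⟨a, ha, rfl⟩ := h
        obtain ⟨r, rfl⟩ := residue_surjective r
        exact ⟨r • a, I.mul_mem_left _ ha, (map_smul _ _ _).trans (algebraMap_smul k r _).symm⟩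
    let bb := Module.finBasis k W'
    choose w hwI hwb using fun i => hWpre _ (hW'le (bb i).2)
    refine ⟨_, w, hwI, ?_, ?_⟩
    · have := Submodule.finrank_add_eq_of_isCompl hW'
      rw [hVdim, ← spanFinrank_maximalIdeal_eq_finrank_cotangentSpace, hnd] at this
      exact this.le
    · set J := Ideal.span (Set.range (fun i => (w i : R)) ∪ Set.range y)
      have hJ : J ≤ m := Ideal.span_le.mpr (Set.union_subset
        (by rintro _ ⟨i, rfl⟩; exact (w i).2) (by rintro _ ⟨i, rfl⟩; exact hym i))
      refine le_antisymm ?_ hJ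
      refine Submodule.le_of_le_smul_of_le_jacobson_bot m.fg_of_isNoetherianRing
        (maximalIdeal_le_jacobson _) ?_
      intro a ha
      let K : Submodule R (CotangentSpace R) := (Submodule.comap m.subtype J).map m.toCotangent
      have hmemK : ∀ v : CotangentSpace R, v ∈ K := by
        have hK : ∀ (r : k) v, v ∈ K → r • v ∈ K := fun r v hv => by
          obtain ⟨r, rfl⟩ := residue_surjective r
          rw [show residue R r • v = r • v from algebraMap_smul k r _]; exact K.smul_mem r hv
        let K' : Submodule k (CotangentSpace R) := { K with smul_mem' := fun r v hv => hK r v hv }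
        intro v
        show v ∈ K'
        have : W' ⊔ V ≤ K' := by
          refine sup_le (fun u hu => ?_) (Submodule.span_le.mpr ?_)
          · have hb := congrArg Subtype.val (bb.sum_repr ⟨u, hu⟩).symm
            simp only [AddSubmonoidClass.coe_finsetSum, SetLike.val_smul] at hb
            rw [hb]
            refine sum_mem fun i _ => K'.smul_mem _ ?_
            exact ⟨w i, Ideal.subset_span (Or.inl ⟨i, rfl⟩), hwb i⟩
          · rintro _ ⟨i, rfl⟩
            exact ⟨⟨y i, hym i⟩, Ideal.subset_span (Or.inr ⟨i, rfl⟩), rfl⟩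
        exact this ((codisjoint_iff.mp hW'.codisjoint).ge Submodule.mem_top)
      obtain ⟨b, hb, hab⟩ := hmemK (m.toCotangent ⟨a, ha⟩)
      rw [Ideal.toCotangent_eq] at hab
      rw [show a = (b : R) - ((b : R) - a) by ring]
      refine sub_mem (Submodule.mem_sup_left hb) (Submodule.mem_sup_right ?_)
      rw [smul_eq_mul, ← sq]; exact hab
  obtain ⟨hce, hm⟩ := hw
  have hzle : c + e = d := by
    refine le_antisymm hce ?_
    rw [← hnd, show maximalIdeal R = m from rfl, hm]
    refine (Submodule.spanFinrank_span_le_ncard_of_finite (Set.toFinite _)).trans ?_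
    refine (Set.ncard_union_le _ _).trans ?_
    rw [← Set.image_univ, ← Set.image_univ, ← hne]
    exact add_le_add ((Set.ncard_image_le (Set.toFinite _)).trans_eq (by simp))
      ((Set.ncard_image_le (Set.toFinite _)).trans_eq (by simp))
  let x : Fin d → R := fun i => if h : (i : ℕ) < c then w ⟨i, h⟩ else y ⟨i - c, by have := i.2; omega⟩
  have hx : Ideal.span (Set.range x) = maximalIdeal R := by
    show _ = m
    rw [hm]; congr 1; ext a
    simp only [Set.mem_union, Set.mem_range, x]
    constructor
    · rintro ⟨i, rfl⟩; split_ifs with h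
      · exact Or.inl ⟨_, rfl⟩
      · exact Or.inr ⟨_, rfl⟩
    · rintro (⟨i, rfl⟩ | ⟨i, rfl⟩)
      · exact ⟨⟨i, by have := i.2; omega⟩, by simp [i.2]⟩
      · refine ⟨⟨c + i, by have := i.2; omega⟩, ?_⟩
        rw [dif_neg (by simp)]; congr 1; ext; simp
  have hxw : ∀ i : Fin c, x (Fin.castLE (by omega) i) = w i := fun i => by simp [x, i.2]
  refine ⟨x, c, by omega, hx, ?_⟩
  set s : Finset (Fin d) := Finset.univ.filter fun j : Fin d => (j : ℕ) < c
  obtain ⟨hreg, hdim⟩ := quot_span_image hd x hx s
  have himg : x '' (s : Set (Fin d)) = Set.range (fun i : Fin c => x (Fin.castLE (by omega) i)) := by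
    ext a; simp only [s, Finset.coe_filter, Finset.mem_univ, true_and, Set.mem_image, Set.mem_setOf_eq, Set.mem_range]
    exact ⟨fun ⟨j, hj, h⟩ => ⟨⟨j, hj⟩, h⟩, fun ⟨j, h⟩ => ⟨_, j.2, h⟩⟩
  have hcard : s.card = c := by
    rw [← Fintype.card_fin c, ← Finset.card_univ]
    exact Finset.card_bij' (fun j hj => ⟨j, by simpa [s] using hj⟩) (fun j _ => Fin.castLE (by omega) j)
      (by simp) (by simp [s]) (by simp) (by simp)
  rw [← himg]
  set J := Ideal.span (x '' (s : Set (Fin d)))
  have hJI : J ≤ I := by
    simp only [J, himg]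
    refine Ideal.span_le.mpr ?_
    rintro _ ⟨i, rfl⟩; show x _ ∈ I; rw [hxw]; exact hwI i
  refine le_antisymm ?_ hJI
  by_contra hne'
  obtain ⟨a, haI, haJ⟩ := SetLike.exists_of_lt (lt_of_le_not_ge hJI hne')
  have := isDomain_aux _ _ hdim
  have ha0 : Ideal.Quotient.mk J a ∈ nonZeroDivisors (R ⧸ J) :=
    mem_nonZeroDivisors_of_ne_zero (mt Ideal.Quotient.eq_zero_iff_mem.mp haJ)
  have h1 := ringKrullDim_quotient_span_singleton_succ_eq_ringKrullDim_of_mem_nonZeroDivisors ha0
    (by rw [maximalIdeal_quot (fun h => hI (top_le_iff.mp (h ▸ hJI)))]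
        exact Ideal.mem_map_of_mem _ (le_maximalIdeal hI haI))
  have h2 : ringKrullDim (R ⧸ I) ≤ ringKrullDim ((R ⧸ J) ⧸ Ideal.span {Ideal.Quotient.mk J a}) := by
    let g : ((R ⧸ J) ⧸ Ideal.span {Ideal.Quotient.mk J a}) →+* R ⧸ I :=
      Ideal.Quotient.lift _ (Ideal.Quotient.factor hJI) fun r hr => by
        obtain ⟨q, rfl⟩ := Ideal.mem_span_singleton'.mp hr
        rw [map_mul, Ideal.Quotient.factor_mk, Ideal.Quotient.eq_zero_iff_mem.mpr haI, mul_zero]
    refine ringKrullDim_le_of_surjective g fun r => ?_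
    obtain ⟨r, rfl⟩ := Ideal.Quotient.mk_surjective r
    exact ⟨Ideal.Quotient.mk _ (Ideal.Quotient.mk J r), by simp [g]⟩
  have h3 := add_le_add_left h2 (1 : WithBot ℕ∞)
  rw [h1, hdim, he, hcard] at h3
  have h3' : e + 1 ≤ d - c := by exact_mod_cast h3
  omega

end Groth.Agent.RegLocal
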