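import Mathlib
import Groth.Agent.RegLocal.Basic

/-! Regular local rings have finite global dimension. -/

set_option autoImplicit false
universe u

namespace Groth.Agent.RegLocal

open CategoryTheory Abelian IsLocalRing

variable {R : Type u} [CommRing R]

/-- Injective dimension can be tested on cyclic modules. -/
theorem hasInjectiveDimensionLT_of_cyclic : ∀ (n : ℕ) (N : ModuleCat.{u} R),
    (∀ I : Ideal R, Subsingleton (Ext (ModuleCat.of R (R ⧸ I)) N (n + 1))) →
    HasInjectiveDimensionLT N (n + 1) := by
  intro n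
  induction n with
  | zero =>
    intro N h
    rw [← injective_iff_hasInjectiveDimensionLT_one]
    suffices hb : Module.Baer R N by
      have := Module.Baer.injective hb
      exact Module.injective_object_of_injective_module R N
    intro I g
    let S : ShortComplex (ModuleCat.{u} R) := I.mkQ.shortComplexKer
    have hS : S.ShortExact := LinearMap.shortExact_shortComplexKer I.mkQ_surjective
    let e : LinearMap.ker I.mkQ ≃ₗ[R] I := LinearEquiv.ofEq _ _ I.ker_mkQ
    let g' : S.X₁ ⟶ N := ModuleCat.ofHom (g.comp e.toLinearMap)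
    obtain ⟨x₂, hx₂⟩ := Ext.contravariant_sequence_exact₁ hS N (Ext.mk₀ g') (n₁ := 0 + 1) rfl
      ((h I).elim _ _)
    obtain ⟨φ, rfl⟩ := (Ext.mk₀_bijective S.X₂ N).2 x₂
    rw [Ext.mk₀_comp_mk₀, (Ext.mk₀_bijective _ _).1.eq_iff] at hx₂
    refine ⟨φ.hom, fun x hx => ?_⟩
    have := DFunLike.congr_fun (congrArg ModuleCat.Hom.hom hx₂) ⟨x, by rw [I.ker_mkQ]; exact hx⟩
    exact this
  | succ n ih =>
    intro N h
    obtain ⟨p⟩ := EnoughInjectives.presentation N
    let S := ShortComplex.mk _ _ (Limits.cokernel.condition p.f)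
    have hS : S.ShortExact := { exact := ShortComplex.exact_cokernel p.f }
    have hC : HasInjectiveDimensionLT S.X₃ (n + 1) := by
      refine ih _ fun I => ⟨fun a b => ?_⟩
      have key : ∀ c : Ext (ModuleCat.of R (R ⧸ I)) S.X₃ (n + 1), c = 0 := by
        intro c
        obtain ⟨x₂, hx₂⟩ := Ext.covariant_sequence_exact₃ _ hS c (n₁ := n + 2) rfl ((h I).elim _ _)
        rw [← hx₂, Ext.eq_zero_of_hasInjectiveDimensionLT x₂ 1 (by omega), Ext.zero_comp]
      rw [key a, key b]
    have h2 : HasInjectiveDimensionLT S.X₂ (n + 2) := hasInjectiveDimensionLT_of_ge _ 1 _ (by omega)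
    exact hS.hasInjectiveDimensionLT_X₁ (n + 1) hC h2

theorem hasProjectiveDimensionLT_of_cyclic (n : ℕ)
    (h : ∀ I : Ideal R, HasProjectiveDimensionLT (ModuleCat.of R (R ⧸ I)) (n + 1))
    (M : ModuleCat.{u} R) : HasProjectiveDimensionLT M (n + 1) := by
  rw [hasProjectiveDimensionLT_iff]
  intro i hi Y e
  have := hasInjectiveDimensionLT_of_cyclic n Y fun I =>
    (h I).subsingleton (ModuleCat.of R (R ⧸ I)) (n + 1) (n + 1) le_rfl Y
  exact Ext.eq_zero_of_hasInjectiveDimensionLT e (n + 1) hi

section ChangeOfRings

variable [IsNoetherianRing R] {x : R} [IsLocalRing (R ⧸ Ideal.span ({x} : Set R))]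

theorem hasProjectiveDimensionLT_two_pi (hx : IsSMulRegular R x) (m : ℕ) :
    HasProjectiveDimensionLT (ModuleCat.of R (Fin m → R ⧸ Ideal.span ({x} : Set R))) 2 := by
  let f : (Fin m → R) →ₗ[R] (Fin m → R ⧸ Ideal.span ({x} : Set R)) :=
    LinearMap.pi fun i => (Submodule.mkQ (Ideal.span ({x} : Set R))).comp (LinearMap.proj i)
  have hf : Function.Surjective f := fun v => by
    choose w hw using fun i => Submodule.mkQ_surjective (Ideal.span ({x} : Set R)) (v i)
    exact ⟨w, funext hw⟩
  let μ : (Fin m → R) →ₗ[R] (Fin m → R) := x • LinearMap.id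
  have hμ : Function.Injective μ := fun a b h => funext fun i => hx (congrFun h i)
  have hker : LinearMap.range μ = LinearMap.ker f := by
    ext v
    constructor
    · rintro ⟨w, rfl⟩
      refine funext fun i => (Submodule.Quotient.mk_eq_zero _).mpr ?_
      exact Ideal.mem_span_singleton'.mpr ⟨w i, mul_comm _ _⟩
    · intro hv
      choose w hw using fun i => Ideal.mem_span_singleton'.mp
        ((Submodule.Quotient.mk_eq_zero _).mp (congrFun hv i))
      exact ⟨w, funext fun i => (mul_comm x (w i)).trans (hw i)⟩
  have hproj : Module.Projective R (LinearMap.ker f) :=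
    .of_equiv ((LinearEquiv.ofInjective μ hμ).trans (LinearEquiv.ofEq _ _ hker))
  have hS := LinearMap.shortExact_shortComplexKer hf
  have h1 : Projective (f.shortComplexKer.X₁) := (IsProjective.iff_projective (R := R) (LinearMap.ker f)).mp hproj
  have h2 : Projective (f.shortComplexKer.X₂) := (IsProjective.iff_projective (R := R) (Fin m → R)).mp inferInstance
  exact hS.hasProjectiveDimensionLT_X₃ 1 inferInstance inferInstance

theorem hasProjectiveDimensionLT_changeRings (hx : IsSMulRegular R x) : ∀ (n : ℕ) (N : Type u)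
    [AddCommGroup N] [Module R N] [Module (R ⧸ Ideal.span ({x} : Set R)) N]
    [IsScalarTower R (R ⧸ Ideal.span ({x} : Set R)) N]
    [Module.Finite (R ⧸ Ideal.span ({x} : Set R)) N],
    HasProjectiveDimensionLT (ModuleCat.of (R ⧸ Ideal.span ({x} : Set R)) N) (n + 1) →
    HasProjectiveDimensionLT (ModuleCat.of R N) (n + 2) := by
  intro n
  induction n with
  | zero =>
    intro N _ _ _ _ _ h
    have hp : Module.Projective (R ⧸ Ideal.span ({x} : Set R)) N :=
      (IsProjective.iff_projective (R := R ⧸ Ideal.span ({x} : Set R)) N).mpr inferInstance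
    have : Module.FinitePresentation (R ⧸ Ideal.span ({x} : Set R)) N :=
      Module.finitePresentation_of_finite _ _
    have := Module.free_of_flat_of_isLocalRing (R := R ⧸ Ideal.span ({x} : Set R)) (P := N)
    let e := (Module.finBasis (R ⧸ Ideal.span ({x} : Set R)) N).equivFun.restrictScalars R
    have := hasProjectiveDimensionLT_two_pi hx (Module.finrank (R ⧸ Ideal.span ({x} : Set R)) N)
    exact hasProjectiveDimensionLT_of_iso e.symm.toModuleIso 2
  | succ n ih =>
    intro N _ _ _ _ _ h
    obtain ⟨m, f, hf⟩ := Module.Finite.exists_fin' (R ⧸ Ideal.span ({x} : Set R)) N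
    have hS := LinearMap.shortExact_shortComplexKer hf
    have hK : HasProjectiveDimensionLT (ModuleCat.of (R ⧸ Ideal.span ({x} : Set R)) (LinearMap.ker f)) (n + 1) :=
      (hS.hasProjectiveDimensionLT_X₃_iff n ((IsProjective.iff_projective _).mp inferInstance)).mp h
    have hK' := ih (LinearMap.ker f) hK
    have hfR : Function.Surjective (f.restrictScalars R) := hf
    have hS' := LinearMap.shortExact_shortComplexKer hfR
    refine hS'.hasProjectiveDimensionLT_X₃ (n + 2) ?_ ?_
    · let e : LinearMap.ker f ≃ₗ[R] LinearMap.ker (f.restrictScalars R) :=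
        { toFun := fun a => ⟨a.1, a.2⟩
          invFun := fun a => ⟨a.1, a.2⟩
          map_add' := fun _ _ => rfl
          map_smul' := fun _ _ => rfl }
      exact hasProjectiveDimensionLT_of_iso e.toModuleIso _
    · have := hasProjectiveDimensionLT_two_pi hx m
      exact hasProjectiveDimensionLT_of_ge _ 2 _ (by omega)

end ChangeOfRings

theorem finite_hasProjectiveDimensionLT : ∀ (d : ℕ) (R : Type u) [CommRing R] [IsRegularLocalRing R],
    ringKrullDim R = d → ∀ (M : Type u) [AddCommGroup M] [Module R M] [Module.Finite R M],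
      HasProjectiveDimensionLT (ModuleCat.of R M) (d + 1) := by
  intro d
  induction d with
  | zero =>
    intro R _ _ hd M _ _ _
    have hn := IsRegularLocalRing.spanFinrank_maximalIdeal (R := R)
    rw [hd] at hn
    have hn' : (maximalIdeal R).spanFinrank = 0 := by exact_mod_cast hn
    have hf : IsField R := IsLocalRing.isField_iff_maximalIdeal_eq.mpr
      ((Submodule.spanFinrank_eq_zero_iff_eq_bot (maximalIdeal R).fg_of_isNoetherianRing).mp hn')
    letI := hf.toField
    have hfree : Module.Free R M := Module.Free.of_divisionRing R M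
    have := (IsProjective.iff_projective (R := R) M).mp (Module.Projective.of_free (R := R) (P := M))
    infer_instance
  | succ d ih =>
    intro R _ _ hd M _ _ _
    have := isDomain R
    have hn := IsRegularLocalRing.spanFinrank_maximalIdeal (R := R)
    rw [hd] at hn
    have hn' : (maximalIdeal R).spanFinrank = d + 1 := by exact_mod_cast hn
    obtain ⟨x, hxm, hx2⟩ : ∃ x ∈ maximalIdeal R, x ∉ maximalIdeal R ^ 2 := by
      by_contra! h
      have hbot : maximalIdeal R = ⊥ :=
        Submodule.eq_bot_of_le_smul_of_le_jacobson_bot _ _ (maximalIdeal R).fg_of_isNoetherianRing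
          (by rw [smul_eq_mul, ← sq]; exact h) (maximalIdeal_le_jacobson _)
      rw [hbot, Submodule.spanFinrank_bot] at hn'; omega
    have hx0 : x ≠ 0 := fun h => hx2 (h ▸ zero_mem _)
    have hreg : IsSMulRegular R x := fun a b h => mul_left_cancel₀ hx0 h
    obtain ⟨hR', -, hdim⟩ := quot_singleton R hd hxm hx2
    obtain ⟨m, f, hf⟩ := Module.Finite.exists_fin' R M
    have hS := LinearMap.shortExact_shortComplexKer hf
    let K := LinearMap.ker f
    have hregK : IsSMulRegular K x := fun a b h =>
      Subtype.ext (funext fun i => hreg (congrFun (congrArg Subtype.val h) i))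
    have htor : Module.IsTorsionBySet R (QuotSMulTop x K) (Ideal.span ({x} : Set R)) := by
      rintro y ⟨r, hr⟩
      obtain ⟨c, rfl⟩ := Ideal.mem_span_singleton'.mp hr
      show (c * x) • y = 0
      rw [mul_smul, Module.mem_annihilator.mp (QuotSMulTop.mem_annihilator _ x) y, smul_zero]
    letI := htor.module
    haveI : IsScalarTower R (R ⧸ Ideal.span ({x} : Set R)) (QuotSMulTop x K) := htor.isScalarTower
    haveI : Module.Finite (R ⧸ Ideal.span ({x} : Set R)) (QuotSMulTop x K) :=
      Module.Finite.of_restrictScalars_finite R _ _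
    have h1 := hasProjectiveDimensionLT_changeRings hreg d (QuotSMulTop x K)
      (ih (R ⧸ Ideal.span ({x} : Set R)) hdim (QuotSMulTop x K))
    have h2 := ModuleCat.projectiveDimension_quotSMulTop_eq_succ_of_isSMulRegular
      (ModuleCat.of R K) x hregK hxm
    have h3 : projectiveDimension (ModuleCat.of R (QuotSMulTop x K)) ≤ ((d + 1 : ℕ) : WithBot ℕ∞) :=
      (projectiveDimension_le_iff _ _).mpr h1
    rw [h2, Nat.cast_add, Nat.cast_one] at h3
    have h4 : HasProjectiveDimensionLT (ModuleCat.of R K) (d + 1) :=
      (projectiveDimension_le_iff _ _).mp (ENat.WithBot.add_le_add_one_right_iff.mp h3)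
    exact hS.hasProjectiveDimensionLT_X₃ (d + 1) h4
      (have := (IsProjective.iff_projective (R := R) (Fin m → R)).mp inferInstance
       hasProjectiveDimensionLT_of_ge _ 1 _ (by omega))

theorem hasProjectiveDimensionLT (R : Type u) [CommRing R] [IsRegularLocalRing R] (d : ℕ)
    (hd : ringKrullDim R = d) (M : ModuleCat.{u} R) : HasProjectiveDimensionLT M (d + 1) :=
  hasProjectiveDimensionLT_of_cyclic d
    (fun I => finite_hasProjectiveDimensionLT d R hd (R ⧸ I)) M

end Groth.Agent.RegLocal
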