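import Mathlib
import Groth.Agent.RegLocal.GlobalDim

/-! Serre's characterisation of regular local rings by projective dimension, with consequences. -/

set_option autoImplicit false
universe u

namespace Groth.Agent.RegLocal

open CategoryTheory Abelian IsLocalRing TensorProduct
open scoped Pointwise

variable {R : Type u} [CommRing R]

theorem projective_of_free' (M : Type u) [AddCommGroup M] [Module R M] [Module.Free R M] :
    Projective (ModuleCat.of R M) :=
  (IsProjective.iff_projective (R := R) M).mp Module.Projective.of_free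

theorem hasProjectiveDimensionLT_of_free (M : Type u) [AddCommGroup M] [Module R M]
    [Module.Free R M] (n : ℕ) : HasProjectiveDimensionLT (ModuleCat.of R M) (n + 1) :=
  haveI := projective_of_free' (R := R) M
  hasProjectiveDimensionLT_of_ge _ 1 _ (by omega)

theorem syzygy_iff {M N : Type u} [AddCommGroup M] [Module R M] [AddCommGroup N] [Module R N]
    [Module.Free R N] (f : N →ₗ[R] M) (hf : Function.Surjective f) (n : ℕ) :
    HasProjectiveDimensionLT (ModuleCat.of R M) (n + 2) ↔
      HasProjectiveDimensionLT (ModuleCat.of R (LinearMap.ker f)) (n + 1) :=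
  (LinearMap.shortExact_shortComplexKer hf).hasProjectiveDimensionLT_X₃_iff n
    (projective_of_free' N)

theorem free_of_projDimLT_one [IsLocalRing R] [IsNoetherianRing R] (M : Type u) [AddCommGroup M]
    [Module R M] [Module.Finite R M] (h : HasProjectiveDimensionLT (ModuleCat.of R M) 1) :
    Module.Free R M := by
  have : Module.Projective R M := (IsProjective.iff_projective (R := R) M).mpr inferInstance
  exact Module.free_of_flat_of_isLocalRing

theorem exists_minimal_cover [IsLocalRing R] (M : Type u) [AddCommGroup M] [Module R M]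
    [Module.Finite R M] : ∃ (n : ℕ) (f : (Fin n → R) →ₗ[R] M), Function.Surjective f ∧
      ∀ v ∈ LinearMap.ker f, ∀ i, v i ∈ maximalIdeal R := by
  classical
  have hex : ∃ n, ∃ f : (Fin n → R) →ₗ[R] M, Function.Surjective f := Module.Finite.exists_fin' R M
  let n := Nat.find hex
  obtain ⟨f, hf⟩ := Nat.find_spec hex
  refine ⟨n, f, hf, fun v hv i => ?_⟩
  by_contra hu
  have hu' : IsUnit (v i) := by simpa using hu
  let T : Finset (Fin n) := Finset.univ.erase i
  let φ : (T → R) →ₗ[R] M := Fintype.linearCombination R fun j : T => f (Pi.single j.1 1)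
  have hmem : ∀ j, f (Pi.single j 1) ∈ LinearMap.range φ := by
    have hmem' : ∀ j, j ≠ i → f (Pi.single j 1) ∈ LinearMap.range φ := fun j hj =>
      ⟨Pi.single ⟨j, by simp [T, hj]⟩ 1, by simp [φ]⟩
    intro j
    rcases eq_or_ne j i with rfl | hj
    · have hv' : v = ∑ l, v l • Pi.single l 1 := by
        funext l; simp [Finset.sum_apply, Pi.single_apply]
      have h0 : ∑ l, v l • f (Pi.single l 1) = 0 := by
        have := LinearMap.mem_ker.mp hv
        rw [hv', map_sum] at this
        simpa using this
      rw [← Finset.add_sum_erase _ _ (Finset.mem_univ j)] at h0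
      have h1 : v j • f (Pi.single j 1) ∈ LinearMap.range φ := by
        rw [eq_neg_of_add_eq_zero_left h0]
        exact neg_mem (sum_mem fun l hl =>
          Submodule.smul_mem _ _ (hmem' l (Finset.ne_of_mem_erase hl)))
      have h2 := Submodule.smul_mem _ (↑hu'.unit⁻¹ : R) h1
      rwa [smul_smul, IsUnit.val_inv_mul, one_smul] at h2
    · exact hmem' j hj
  have hφ : Function.Surjective φ := by
    intro y
    obtain ⟨w, rfl⟩ := hf y
    have hw : w = ∑ l, w l • Pi.single l 1 := by
      funext l; simp [Finset.sum_apply, Pi.single_apply]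
    show f w ∈ LinearMap.range φ
    rw [hw, map_sum]
    exact sum_mem fun l _ => by rw [map_smul]; exact Submodule.smul_mem _ _ (hmem l)
  have hlt : n ≤ T.card := Nat.find_min' hex
    ⟨φ.comp (LinearEquiv.funCongrLeft R R T.equivFin).toLinearMap,
      hφ.comp (LinearEquiv.surjective _)⟩
  have : T.card < n := (Finset.card_erase_lt_of_mem (Finset.mem_univ i)).trans_eq (by simp)
  omega

/-- In depth zero a finite module of finite projective dimension is free. -/
theorem free_of_depth_zero [IsLocalRing R] [IsNoetherianRing R] {s : R} (hs : s ≠ 0)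
    (hsm : ∀ a ∈ maximalIdeal R, a * s = 0) : ∀ (n : ℕ) (M : Type u) [AddCommGroup M] [Module R M]
      [Module.Finite R M], HasProjectiveDimensionLT (ModuleCat.of R M) n → Module.Free R M := by
  intro n
  induction n with
  | zero =>
    intro M _ _ _ h
    have := hasProjectiveDimensionLT_of_ge (ModuleCat.of R M) 0 1 (Nat.zero_le _)
    exact free_of_projDimLT_one M this
  | succ n ih =>
    intro M _ _ _ h
    cases n with
    | zero => exact free_of_projDimLT_one M h
    | succ n =>
      obtain ⟨m, f, hf, hker⟩ := exists_minimal_cover (R := R) M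
      have hK := (syzygy_iff f hf n).mp h
      have hfree := ih (LinearMap.ker f) hK
      have h0 : ∀ a : LinearMap.ker f, s • a = 0 := fun a => by
        refine Subtype.ext (funext fun i => ?_)
        show s * a.1 i = 0
        rw [mul_comm]; exact hsm _ (hker a.1 a.2 i)
      have hbot : LinearMap.ker f = ⊥ := by
        rw [← Submodule.subsingleton_iff_eq_bot]
        by_contra hne
        rw [not_subsingleton_iff_nontrivial] at hne
        obtain ⟨j⟩ := (Module.Free.chooseBasis R (LinearMap.ker f)).index_nonempty
        have := congrArg (fun t => (Module.Free.chooseBasis R (LinearMap.ker f)).repr t j)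
          (h0 (Module.Free.chooseBasis R (LinearMap.ker f) j))
        simp at this
        exact hs this
      exact Module.Free.of_equiv (LinearEquiv.ofBijective f ⟨LinearMap.ker_eq_bot.mp hbot, hf⟩)

section Down

variable [IsLocalRing R] [IsNoetherianRing R] {x : R}

theorem hasProjectiveDimensionLT_down (hxR : IsSMulRegular R x) : ∀ (n : ℕ) (M : Type u)
    [AddCommGroup M] [Module R M] [Module.Finite R M], IsSMulRegular M x →
    HasProjectiveDimensionLT (ModuleCat.of R M) (n + 1) →
    HasProjectiveDimensionLT
      (ModuleCat.of (R ⧸ Ideal.span ({x} : Set R)) ((R ⧸ Ideal.span ({x} : Set R)) ⊗[R] M)) (n + 1) := by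
  intro n
  induction n with
  | zero =>
    intro M _ _ _ _ h
    have := free_of_projDimLT_one M h
    exact hasProjectiveDimensionLT_of_free _ 0
  | succ n ih =>
    intro M _ _ _ hxM h
    obtain ⟨m, f, hf⟩ := Module.Finite.exists_fin' R M
    have hK := (syzygy_iff f hf n).mp h
    have hxK : IsSMulRegular (LinearMap.ker f) x := fun a b hab =>
      Subtype.ext (funext fun i => hxR (congrFun (congrArg Subtype.val hab) i))
    have h1 := ih (LinearMap.ker f) hxK hK
    let S := R ⧸ Ideal.span ({x} : Set R)
    let fb := f.baseChange S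
    have hfb : Function.Surjective fb := LinearMap.lTensor_surjective _ hf
    have hinj : Function.Injective ((LinearMap.ker f).subtype.baseChange S) := by
      have key : ∀ a : LinearMap.ker f, (a : Fin m → R) ∈ x • (⊤ : Submodule R (Fin m → R)) →
          a ∈ x • (⊤ : Submodule R (LinearMap.ker f)) := by
        intro a ha
        obtain ⟨b, -, hb⟩ := (Submodule.mem_smul_pointwise_iff_exists _ _ _).mp ha
        have hfb' : f b = 0 := hxM (by
          show x • f b = x • 0
          rw [← map_smul, hb, smul_zero]; exact LinearMap.mem_ker.mp a.2)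
        exact (Submodule.mem_smul_pointwise_iff_exists _ _ _).mpr
          ⟨⟨b, hfb'⟩, trivial, Subtype.ext hb⟩
      rw [injective_iff_map_eq_zero]
      intro t ht
      obtain ⟨a, rfl⟩ := TensorProduct.mk_surjective R (LinearMap.ker f) S Ideal.Quotient.mk_surjective t
      have h2 := congrArg (TensorProduct.quotTensorEquivQuotSMul (Fin m → R) (Ideal.span ({x} : Set R))) ht
      rw [map_zero, TensorProduct.mk_apply, LinearMap.baseChange_tmul, Submodule.subtype_apply,
        ← (Ideal.Quotient.mk (Ideal.span ({x} : Set R))).map_one,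
        TensorProduct.quotTensorEquivQuotSMul_mk_tmul, one_smul, Submodule.Quotient.mk_eq_zero,
        Submodule.ideal_span_singleton_smul] at h2
      apply (TensorProduct.quotTensorEquivQuotSMul (LinearMap.ker f) (Ideal.span ({x} : Set R))).injective
      rw [map_zero, TensorProduct.mk_apply, ← (Ideal.Quotient.mk (Ideal.span ({x} : Set R))).map_one,
        TensorProduct.quotTensorEquivQuotSMul_mk_tmul, one_smul, Submodule.Quotient.mk_eq_zero,
        Submodule.ideal_span_singleton_smul]
      exact key a h2
    have hex : Function.Exact ((LinearMap.ker f).subtype.baseChange S) fb :=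
      lTensor_exact S (LinearMap.exact_subtype_ker_map f) hf
    have hrange : LinearMap.range ((LinearMap.ker f).subtype.baseChange S) = LinearMap.ker fb :=
      (LinearMap.exact_iff.mp hex).symm
    refine (syzygy_iff fb hfb n).mpr ?_
    exact hasProjectiveDimensionLT_of_iso
      ((LinearEquiv.ofInjective _ hinj).trans (LinearEquiv.ofEq _ _ hrange)).toModuleIso (n + 1)

end Down

theorem pd_ker_baseChange_iff (S : Type u) [CommRing S] [Algebra R S] [Module.Flat R S]
    {N M : Type u} [AddCommGroup N] [Module R N] [AddCommGroup M] [Module R M] (f : N →ₗ[R] M)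
    (hf : Function.Surjective f) (n : ℕ) :
    HasProjectiveDimensionLT (ModuleCat.of S (LinearMap.ker (f.baseChange S))) n ↔
      HasProjectiveDimensionLT (ModuleCat.of S (S ⊗[R] LinearMap.ker f)) n := by
  have hinj : Function.Injective ((LinearMap.ker f).subtype.baseChange S) :=
    Module.Flat.lTensor_preserves_injective_linearMap (M := S) (LinearMap.ker f).subtype
      Subtype.val_injective
  have hex : Function.Exact ((LinearMap.ker f).subtype.baseChange S) (f.baseChange S) :=
    lTensor_exact S (LinearMap.exact_subtype_ker_map f) hf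
  let e : (S ⊗[R] LinearMap.ker f) ≃ₗ[S] LinearMap.ker (f.baseChange S) :=
    (LinearEquiv.ofInjective _ hinj).trans
      (LinearEquiv.ofEq _ _ (LinearMap.exact_iff.mp hex).symm)
  have iso : ModuleCat.of S (S ⊗[R] LinearMap.ker f) ≅ ModuleCat.of S (LinearMap.ker (f.baseChange S)) :=
    LinearEquiv.toModuleIso (X₁ := S ⊗[R] LinearMap.ker f) (X₂ := LinearMap.ker (f.baseChange S)) e
  exact ⟨fun _ => hasProjectiveDimensionLT_of_iso iso.symm n, fun _ => hasProjectiveDimensionLT_of_iso iso n⟩

theorem flat_baseChange (S : Type u) [CommRing S] [Algebra R S] [Module.Flat R S] :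
    ∀ (n : ℕ) (M : Type u) [AddCommGroup M] [Module R M],
      HasProjectiveDimensionLT (ModuleCat.of R M) (n + 1) →
      HasProjectiveDimensionLT (ModuleCat.of S (S ⊗[R] M)) (n + 1) := by
  intro n
  induction n with
  | zero =>
    intro M _ _ h
    have : Module.Projective R M := (IsProjective.iff_projective (R := R) M).mpr inferInstance
    have := (IsProjective.iff_projective (R := S) (S ⊗[R] M)).mp inferInstance
    infer_instance
  | succ n ih =>
    intro M _ _ h
    let f : (M →₀ R) →ₗ[R] M := Finsupp.linearCombination R id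
    have hf : Function.Surjective f := fun y => ⟨Finsupp.single y 1, by simp [f]⟩
    have h1 := ih (LinearMap.ker f) ((syzygy_iff f hf n).mp h)
    exact (syzygy_iff (f.baseChange S) (LinearMap.lTensor_surjective _ hf) n).mpr
      ((pd_ker_baseChange_iff S f hf (n + 1)).mpr h1)

theorem of_faithfullyFlat_baseChange [IsLocalRing R] [IsNoetherianRing R] (S : Type u) [CommRing S]
    [Algebra R S] [Module.FaithfullyFlat R S] :
    ∀ (n : ℕ) (M : Type u) [AddCommGroup M] [Module R M] [Module.Finite R M],
      HasProjectiveDimensionLT (ModuleCat.of S (S ⊗[R] M)) (n + 1) →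
      HasProjectiveDimensionLT (ModuleCat.of R M) (n + 1) := by
  intro n
  induction n with
  | zero =>
    intro M _ _ _ h
    have : Module.Projective S (S ⊗[R] M) :=
      (IsProjective.iff_projective (R := S) (S ⊗[R] M)).mpr inferInstance
    have : Module.Flat R M := Module.Flat.of_flat_tensorProduct R M S
    have : Module.Free R M := Module.free_of_flat_of_isLocalRing
    exact hasProjectiveDimensionLT_of_free _ 0
  | succ n ih =>
    intro M _ _ _ h
    obtain ⟨m, f, hf⟩ := Module.Finite.exists_fin' R M
    have h1 := (syzygy_iff (f.baseChange S) (LinearMap.lTensor_surjective _ hf) n).mp h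
    exact (syzygy_iff f hf n).mpr (ih _ ((pd_ker_baseChange_iff S f hf (n + 1)).mp h1))

set_option maxHeartbeats 1000000 in
set_option synthInstance.maxHeartbeats 200000 in
theorem isRegularLocalRing_of_residue_projDim : ∀ (e : ℕ) (R : Type u) [CommRing R] [IsLocalRing R]
    [IsNoetherianRing R], (maximalIdeal R).spanFinrank = e → ∀ n,
      HasProjectiveDimensionLT (ModuleCat.of R (ResidueField R)) n → IsRegularLocalRing R := by
  intro e
  induction e using Nat.strong_induction_on with
  | _ e ih =>
    intro R _ _ _ he n hn
    classical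
    by_cases hbot : maximalIdeal R = ⊥
    · refine IsRegularLocalRing.of_spanFinrank_maximalIdeal_le _ ?_
      rw [hbot, Submodule.spanFinrank_bot, Nat.cast_zero]
      exact ringKrullDim_nonneg_of_nontrivial
    have hass : maximalIdeal R ∉ associatedPrimes R R := by
      intro h
      obtain ⟨-, s, hs⟩ := isAssociatedPrime_iff.mp h
      have hsm : ∀ a ∈ maximalIdeal R, a * s = 0 := fun a ha => by
        rw [hs, Submodule.mem_colon_singleton] at ha; simpa using ha
      have hs0 : s ≠ 0 := by
        rintro rfl
        refine (maximalIdeal.isMaximal R).ne_top ?_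
        rw [hs, Ideal.eq_top_iff_one, Submodule.mem_colon_singleton]; simp
      have := free_of_depth_zero hs0 hsm n (ResidueField R) hn
      refine hbot (eq_bot_iff.mpr fun a ha => Ideal.mem_bot.mpr ?_)
      have ha0 : ∀ y : ResidueField R, a • y = 0 := fun y => by
        rw [← algebraMap_smul (ResidueField R) a y, show algebraMap R (ResidueField R) a = 0 from
          (residue_eq_zero_iff a).mpr ha, zero_smul]
      have : Nontrivial (ResidueField R) := inferInstanceAs (Nontrivial (R ⧸ maximalIdeal R))
      obtain ⟨j⟩ := (Module.Free.chooseBasis R (ResidueField R)).index_nonempty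
      have := congrArg (fun t => (Module.Free.chooseBasis R (ResidueField R)).repr t j)
        (ha0 (Module.Free.chooseBasis R (ResidueField R) j))
      simpa using this
    have hfin := associatedPrimes.finite R R
    have hm2 : ¬ maximalIdeal R ≤ maximalIdeal R ^ 2 := fun h => hbot <|
      Submodule.eq_bot_of_le_smul_of_le_jacobson_bot _ _ (maximalIdeal R).fg_of_isNoetherianRing
        (by rwa [smul_eq_mul, ← sq]) (maximalIdeal_le_jacobson _)
    obtain ⟨x, hxm, hx2, hxass⟩ : ∃ x ∈ maximalIdeal R, x ∉ maximalIdeal R ^ 2 ∧
        ∀ p ∈ associatedPrimes R R, x ∉ p := by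
      by_contra! hcon
      have hsub : (maximalIdeal R : Set R) ⊆
          ⋃ p ∈ ((insert (maximalIdeal R ^ 2) hfin.toFinset : Finset (Ideal R)) : Set (Ideal R)),
            (p : Set R) := by
        intro x hx
        by_cases h2 : x ∈ maximalIdeal R ^ 2
        · exact Set.mem_biUnion (by simp) h2
        · obtain ⟨p, hp, hxp⟩ := hcon x hx h2
          exact Set.mem_biUnion (by simp [hp]) hxp
      obtain ⟨p, hp, hle⟩ := (Ideal.subset_union_prime (maximalIdeal R ^ 2) (maximalIdeal R ^ 2)
        (fun p hp hne _ => by
          rcases Finset.mem_insert.mp hp with rfl | hp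
          · exact absurd rfl hne
          · exact (hfin.mem_toFinset.mp hp).1)).mp hsub
      rcases Finset.mem_insert.mp hp with rfl | hp
      · exact hm2 hle
      · have hp' := hfin.mem_toFinset.mp hp
        exact hass ((maximalIdeal.isMaximal R).eq_of_le hp'.1.ne_top hle ▸ hp')
    have hxreg : IsSMulRegular R x := by
      refine isSMulRegular_iff_right_eq_zero_of_smul.mpr fun a ha => ?_
      by_contra ha0
      have hz : x ∈ {r : R | ∃ y, y ≠ (0:R) ∧ r • y = 0} := ⟨a, ha0, ha⟩
      rw [← biUnion_associatedPrimes_eq_zero_divisors, Set.mem_iUnion₂] at hz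
      obtain ⟨p, hp, hxp⟩ := hz
      exact hxass p hp hxp
    obtain ⟨y, i, hyi, hy⟩ := exists_generators_extending hxm hx2
    have hI : Ideal.span ({x} : Set R) ≠ ⊤ := Ideal.span_singleton_ne_top hxm
    have := isLocalRing_quot hI
    set S := R ⧸ Ideal.span ({x} : Set R)
    have hmS : maximalIdeal S = (maximalIdeal R).map (Ideal.Quotient.mk _) := maximalIdeal_quot hI
    -- the other generators
    let J := Ideal.span (y '' ({i}ᶜ : Set (Fin _)))
    have hJle : J ≤ maximalIdeal R := hy ▸ Ideal.span_mono (Set.image_subset_range _ _)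
    have hmJ : maximalIdeal R ≤ Ideal.span {x} ⊔ J := by
      rw [← hy, Ideal.span_le]
      rintro _ ⟨j, rfl⟩
      rcases eq_or_ne j i with rfl | hj
      · exact Submodule.mem_sup_left (hyi ▸ Ideal.mem_span_singleton_self _)
      · exact Submodule.mem_sup_right (Ideal.subset_span ⟨j, hj, rfl⟩)
    have hi_lt : (i : ℕ) < e := he ▸ i.2
    have hxJ : x ∉ J ⊔ maximalIdeal R ^ 2 := by
      intro hx
      have hle : maximalIdeal R ≤ J ⊔ maximalIdeal R • maximalIdeal R := by
        rw [smul_eq_mul, ← sq]
        exact hmJ.trans (sup_le ((Ideal.span_singleton_le_iff_mem _).mpr hx) le_sup_left)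
      have h1 : maximalIdeal R ≤ J := Submodule.le_of_le_smul_of_le_jacobson_bot
        (maximalIdeal R).fg_of_isNoetherianRing (maximalIdeal_le_jacobson _) hle
      have h2 : (maximalIdeal R).spanFinrank ≤ e - 1 := by
        rw [le_antisymm h1 hJle]
        refine (Submodule.spanFinrank_span_le_ncard_of_finite (Set.toFinite _)).trans ?_
        refine (Set.ncard_image_le (Set.toFinite _)).trans ?_
        rw [Set.ncard_compl, Set.ncard_singleton, Nat.card_fin, he]
      omega
    have hrk : (maximalIdeal S).spanFinrank ≤ e - 1 := by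
      have : maximalIdeal S = Ideal.span ((Ideal.Quotient.mk _ ∘ y) '' ({i}ᶜ : Set (Fin _))) := by
        rw [hmS, Set.image_comp, ← Ideal.map_span]
        refine le_antisymm ?_ (Ideal.map_mono hJle)
        refine (Ideal.map_mono hmJ).trans ?_
        rw [Ideal.map_sup, Ideal.map_quotient_self, bot_sup_eq]
      rw [this]
      refine (Submodule.spanFinrank_span_le_ncard_of_finite (Set.toFinite _)).trans ?_
      refine (Set.ncard_image_le (Set.toFinite _)).trans ?_
      rw [Set.ncard_compl, Set.ncard_singleton, Nat.card_fin, he]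
    -- projective dimension of the maximal ideal
    have hn1 : HasProjectiveDimensionLT (ModuleCat.of R (ResidueField R)) (n + 2) :=
      hasProjectiveDimensionLT_of_ge _ n _ (by omega)
    let π : R →ₗ[R] ResidueField R := Algebra.linearMap R (ResidueField R)
    have hπker : LinearMap.ker π = maximalIdeal R := by
      ext a; exact residue_eq_zero_iff a
    have hker := (syzygy_iff π residue_surjective n).mp hn1
    have hm : HasProjectiveDimensionLT (ModuleCat.of R (maximalIdeal R)) (n + 1) :=
      hasProjectiveDimensionLT_of_iso (LinearEquiv.ofEq _ _ hπker).toModuleIso (n + 1)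
    have hxm' : IsSMulRegular (maximalIdeal R) x := fun a b hab =>
      Subtype.ext (hxreg (congrArg Subtype.val hab))
    have hT := hasProjectiveDimensionLT_down hxreg n (maximalIdeal R) hxm' hm
    -- the map onto the maximal ideal of the quotient
    let g₀ : maximalIdeal R →ₗ[R] maximalIdeal S :=
      { toFun := fun a => ⟨Ideal.Quotient.mk _ a.1, hmS ▸ Ideal.mem_map_of_mem _ a.2⟩
        map_add' := fun a b => Subtype.ext (map_add _ _ _)
        map_smul' := fun r a => Subtype.ext (map_mul _ _ _) }
    have hg₀ : Function.Surjective g₀ := by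
      rintro ⟨b, hb⟩
      rw [hmS] at hb
      obtain ⟨a, ha, rfl⟩ := (Ideal.mem_map_iff_of_surjective _ Ideal.Quotient.mk_surjective).mp hb
      exact ⟨⟨a, ha⟩, rfl⟩
    let g : S ⊗[R] maximalIdeal R →ₗ[S] maximalIdeal S := g₀.liftBaseChange S
    have hg : ∀ (c : S) (a : maximalIdeal R), g (c ⊗ₜ a) = c • g₀ a := fun c a =>
      g₀.liftBaseChange_tmul S c a
    let P : Submodule R (S ⊗[R] maximalIdeal R) :=
      (Submodule.comap (maximalIdeal R).subtype J).map (TensorProduct.mk R S (maximalIdeal R) 1)
    have hPinj : ∀ z ∈ P, g z = 0 → z = 0 := by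
      rintro _ ⟨a, ha, rfl⟩ h
      rw [TensorProduct.mk_apply, hg, one_smul] at h
      obtain ⟨r, hr⟩ := Ideal.mem_span_singleton'.mp
        (Ideal.Quotient.eq_zero_iff_mem.mp (congrArg Subtype.val h))
      have hrm : r ∈ maximalIdeal R := by
        by_contra hu
        have hu' : IsUnit r := by simpa using hu
        refine hxJ (Submodule.mem_sup_left ((Ideal.unit_mul_mem_iff_mem _ hu').mp ?_))
        rw [hr]; exact ha
      have hax : a = x • (⟨r, hrm⟩ : maximalIdeal R) := Subtype.ext (by
        rw [SetLike.val_smul, smul_eq_mul, mul_comm, hr])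
      rw [TensorProduct.mk_apply, hax, ← TensorProduct.smul_tmul, Algebra.smul_def,
        show algebraMap R S x = 0 from Ideal.Quotient.eq_zero_iff_mem.mpr (Ideal.mem_span_singleton_self x),
        zero_mul, TensorProduct.zero_tmul]
    have hPsurj : ∀ b : maximalIdeal S, ∃ z ∈ P, g z = b := by
      intro b
      obtain ⟨a, rfl⟩ := hg₀ b
      obtain ⟨p, hp, q, hq, hpq⟩ := Submodule.mem_sup.mp (hmJ a.2)
      refine ⟨1 ⊗ₜ ⟨q, hJle hq⟩, ⟨⟨q, hJle hq⟩, hq, rfl⟩, ?_⟩
      rw [hg, one_smul]
      apply Subtype.ext
      show Ideal.Quotient.mk _ q = Ideal.Quotient.mk _ a.1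
      rw [← hpq, map_add, Ideal.Quotient.eq_zero_iff_mem.mpr hp, zero_add]
    choose σ hσP hσ using hPsurj
    have huniq : ∀ z ∈ P, ∀ b, g z = b → z = σ b := fun z hz b h => by
      have := hPinj (z - σ b) (sub_mem hz (hσP b)) (by rw [map_sub, h, hσ, sub_self])
      exact sub_eq_zero.mp this
    let σL : maximalIdeal S →ₗ[S] S ⊗[R] maximalIdeal R :=
      { toFun := σ
        map_add' := fun a b => (huniq _ (add_mem (hσP a) (hσP b)) _ (by rw [map_add, hσ, hσ])).symm
        map_smul' := fun c a => by
          obtain ⟨r, rfl⟩ := Ideal.Quotient.mk_surjective c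
          refine (huniq _ ?_ _ (by rw [RingHom.id_apply, map_smul, hσ])).symm
          rw [RingHom.id_apply, show Ideal.Quotient.mk _ r • σ a = r • σ a from algebraMap_smul S r (σ a)]
          exact P.smul_mem r (hσP a) }
    let ret : Retract (ModuleCat.of S (maximalIdeal S)) (ModuleCat.of S (S ⊗[R] maximalIdeal R)) :=
      { i := ModuleCat.ofHom σL, r := ModuleCat.ofHom g,
        retract := ModuleCat.hom_ext (LinearMap.ext hσ) }
    have hmSpd := ret.hasProjectiveDimensionLT (n + 1)
    let πS : S →ₗ[S] ResidueField S := Algebra.linearMap S (ResidueField S)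
    have hπSker : LinearMap.ker πS = maximalIdeal S := by
      ext a; exact residue_eq_zero_iff a
    have hkS : HasProjectiveDimensionLT (ModuleCat.of S (ResidueField S)) (n + 2) :=
      (syzygy_iff πS residue_surjective n).mpr
        (hasProjectiveDimensionLT_of_iso (LinearEquiv.ofEq _ _ hπSker).toModuleIso.symm (n + 1))
    have := ih _ (by omega) S rfl _ hkS
    exact isRegularLocalRing_of_quot_regular hxm
      (mem_nonZeroDivisors_iff_right.mpr fun a ha => hxreg (by
        show x * a = x * 0; rw [mul_zero, mul_comm, ha]))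

end Groth.Agent.RegLocal
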