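import Mathlib
import Groth.Agent.RegLocal.Serre

/-! Consequences of Serre's criterion. -/

set_option autoImplicit false
universe u

namespace Groth.Agent.RegLocal

open CategoryTheory Abelian IsLocalRing TensorProduct

theorem isRegularLocalRing_of_projDimLT_residue (R : Type u) [CommRing R] [IsLocalRing R]
    [IsNoetherianRing R] (n : ℕ)
    (h : HasProjectiveDimensionLT (ModuleCat.of R (ResidueField R)) n) : IsRegularLocalRing R :=
  isRegularLocalRing_of_residue_projDim _ R rfl n h

theorem isRegularLocalRing_localization (R : Type u) [CommRing R] [IsRegularLocalRing R]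
    (p : Ideal R) [p.IsPrime] : IsRegularLocalRing (Localization.AtPrime p) := by
  obtain ⟨d, hd⟩ := exists_nat_ringKrullDim R
  set L := Localization.AtPrime p
  have := IsLocalization.isNoetherianRing p.primeCompl L inferInstance
  have h1 := flat_baseChange L d (R ⧸ p) (finite_hasProjectiveDimensionLT d R hd (R ⧸ p))
  let e₁ : (L ⊗[R] (R ⧸ p)) ≃ₐ[L] L ⧸ p.map (algebraMap R L) :=
    (Algebra.TensorProduct.quotIdealMapEquivTensorQuot L p).symm
  have hmax : p.map (algebraMap R L) = maximalIdeal L :=
    Localization.AtPrime.map_eq_maximalIdeal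
  let e : (L ⊗[R] (R ⧸ p)) ≃ₗ[L] ResidueField L :=
    (e₁.trans (Ideal.quotientEquivAlgOfEq L hmax)).toLinearEquiv
  have iso : ModuleCat.of L (L ⊗[R] (R ⧸ p)) ≅ ModuleCat.of L (ResidueField L) :=
    LinearEquiv.toModuleIso (X₁ := L ⊗[R] (R ⧸ p)) (X₂ := ResidueField L) e
  exact isRegularLocalRing_of_projDimLT_residue L (d + 1) (hasProjectiveDimensionLT_of_iso iso _)

theorem isRegularLocalRing_of_flat (R : Type u) [CommRing R] [IsLocalRing R] [IsNoetherianRing R]
    (S : Type u) [CommRing S] [IsRegularLocalRing S] [Algebra R S]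
    [IsLocalHom (algebraMap R S)] [Module.Flat R S] : IsRegularLocalRing R := by
  obtain ⟨d, hd⟩ := exists_nat_ringKrullDim S
  have := Module.FaithfullyFlat.of_flat_of_isLocalHom (A := R) (B := S)
  refine isRegularLocalRing_of_projDimLT_residue R (d + 1)
    (of_faithfullyFlat_baseChange S d (ResidueField R) ?_)
  exact hasProjectiveDimensionLT S d hd _

theorem projectiveDimension_residueField (R : Type u) [CommRing R] [IsRegularLocalRing R] (d : ℕ)
    (hd : ringKrullDim R = d) :
    projectiveDimension (ModuleCat.of R (ResidueField R)) = (d : WithBot ℕ∞) := by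
  obtain ⟨x, hx⟩ := exists_generators R
  have hn := IsRegularLocalRing.spanFinrank_maximalIdeal (R := R)
  rw [hd] at hn
  have hn' : (maximalIdeal R).spanFinrank = d := by exact_mod_cast hn
  rw [hn'] at x
  clear x hx
  obtain ⟨x, hx⟩ : ∃ x : Fin d → R, Ideal.span (Set.range x) = maximalIdeal R := hn' ▸ exists_generators R
  have hreg := isRegular_of_generators R hd x hx
  have h := ModuleCat.projectiveDimension_quotient_eq_length.{u} (List.ofFn x) hreg
  rw [List.length_ofFn] at h
  rw [← h]
  have hof : Ideal.ofList (List.ofFn x) = maximalIdeal R := by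
    rw [← hx, Ideal.ofList]; congr 1; ext y; simp [List.mem_ofFn]
  let e : ResidueField R ≃ₗ[R] Shrink.{u} (R ⧸ Ideal.ofList (List.ofFn x)) :=
    (Ideal.quotientEquivAlgOfEq R hof.symm).toLinearEquiv.trans (Shrink.linearEquiv R _).symm
  exact projectiveDimension_eq_of_iso
    (LinearEquiv.toModuleIso (X₁ := ResidueField R) (X₂ := Shrink.{u} (R ⧸ Ideal.ofList (List.ofFn x))) e)

theorem finrank_cotangent_lt (R : Type u) [CommRing R] [IsLocalRing R] [IsNoetherianRing R] (d : ℕ)
    (hd : HasProjectiveDimensionLT (ModuleCat.of R (ResidueField R)) d) :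
    Module.finrank (ResidueField R) (CotangentSpace R) < d := by
  have := isRegularLocalRing_of_projDimLT_residue R d hd
  obtain ⟨n, hn⟩ := exists_nat_ringKrullDim R
  have h := (IsRegularLocalRing.iff_finrank_cotangentSpace R).mp this
  rw [hn] at h
  have h' : Module.finrank (ResidueField R) (CotangentSpace R) = n := by exact_mod_cast h
  have hpd := projectiveDimension_residueField R n hn
  rw [h']
  have hlt : (n : WithBot ℕ∞) < (d : WithBot ℕ∞) := hpd ▸ projectiveDimension_lt_iff.mpr hd
  exact_mod_cast hlt

section Ext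

variable {R : Type u} [CommRing R] [IsNoetherianRing R]

theorem ext_finite_vanish (M : Type u) [AddCommGroup M] [Module R M] (j : ℕ)
    (hpd : HasProjectiveDimensionLT (ModuleCat.of R M) (j + 1))
    (h : Subsingleton (Ext (ModuleCat.of R M) (ModuleCat.of R R) j)) (L : ModuleCat.{u} R)
    [Module.Finite R L] : Subsingleton (Ext (ModuleCat.of R M) L j) := by
  have hfree : ∀ n : ℕ, ∀ e : Ext (ModuleCat.of R M) (ModuleCat.of R (Fin n → R)) j, e = 0 := by
    intro n
    induction n with
    | zero =>
      intro e
      have hz : Limits.IsZero (ModuleCat.of R (Fin 0 → R)) := ModuleCat.isZero_of_subsingleton _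
      rw [← Ext.comp_mk₀_id e, hz.eq_of_src (𝟙 _) 0, Ext.mk₀_zero, Ext.comp_zero]
    | succ n ih =>
      intro e
      let f : (Fin (n + 1) → R) →ₗ[R] R := LinearMap.proj 0
      have hf : Function.Surjective f := fun r => ⟨fun _ => r, rfl⟩
      have hS := LinearMap.shortExact_shortComplexKer hf
      obtain ⟨e', he'⟩ := Ext.covariant_sequence_exact₂ (ModuleCat.of R M) hS e (h.elim _ _)
      let g : LinearMap.ker f ≃ₗ[R] (Fin n → R) :=
        { toFun := fun v i => v.1 i.succ
          invFun := fun w => ⟨Fin.cons 0 w, by simp [f]⟩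
          map_add' := fun _ _ => rfl
          map_smul' := fun _ _ => rfl
          left_inv := fun v => Subtype.ext (funext fun i => by
            refine Fin.cases ?_ (fun j => by simp) i
            have h0 : v.1 0 = 0 := v.2
            simp [h0])
          right_inv := fun w => by simp }
      have iso : f.shortComplexKer.X₁ ≅ ModuleCat.of R (Fin n → R) :=
        LinearEquiv.toModuleIso (X₁ := LinearMap.ker f) (X₂ := Fin n → R) g
      have h0 : e' = 0 := by
        rw [← Ext.comp_mk₀_id e', ← iso.hom_inv_id, ← Ext.mk₀_comp_mk₀,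
          ← Ext.comp_assoc e' _ _ (add_zero j) (add_zero 0) (by simp), ih (e'.comp (Ext.mk₀ iso.hom) (add_zero j)), Ext.zero_comp]
      rw [← he', h0, Ext.zero_comp]
  obtain ⟨n, f, hf⟩ := Module.Finite.exists_fin' R L
  have hS := LinearMap.shortExact_shortComplexKer hf
  refine ⟨fun a b => ?_⟩
  have key : ∀ c : Ext (ModuleCat.of R M) L j, c = 0 := fun c => by
    obtain ⟨x₂, hx₂⟩ := Ext.covariant_sequence_exact₃ (ModuleCat.of R M) hS c (n₁ := j + 1) rfl
      (Ext.eq_zero_of_hasProjectiveDimensionLT _ (j + 1) le_rfl)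
    rw [← hx₂, hfree n x₂, Ext.zero_comp]
  rw [key a, key b]

theorem projDimLT_descend (M : Type u) [AddCommGroup M] [Module R M] [Module.Finite R M] (j : ℕ)
    (hpd : HasProjectiveDimensionLT (ModuleCat.of R M) (j + 1))
    (h : Subsingleton (Ext (ModuleCat.of R M) (ModuleCat.of R R) j)) :
    HasProjectiveDimensionLT (ModuleCat.of R M) j :=
  ModuleCat.hasProjectiveDimensionLT_of_forall_finite _ j fun L hL =>
    @ext_finite_vanish R _ _ M _ _ j hpd h L hL

end Ext

variable (A : Type u) [CommRing A] [IsRegularLocalRing A] (M : Type u) [AddCommGroup M] [Module A M]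
  [Module.Finite A M]

theorem projDimLT_of_ext_vanish (n : ℕ) (hn : ringKrullDim A = n) (d : ℕ)
    (h : ∀ j : ℕ, d < j → j ≤ n → Subsingleton (Ext (ModuleCat.of A M) (ModuleCat.of A A) j)) :
    HasProjectiveDimensionLT (ModuleCat.of A M) (d + 1) := by
  have key : ∀ k j, j + k = n + 1 → d < j → HasProjectiveDimensionLT (ModuleCat.of A M) j := by
    intro k
    induction k with
    | zero =>
      intro j hj _
      rw [show j = n + 1 by omega]
      exact finite_hasProjectiveDimensionLT n A hn M
    | succ k ih =>
      intro j hj hdj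
      exact projDimLT_descend M j (ih (j + 1) (by omega) (by omega)) (h j hdj (by omega))
  rcases Nat.lt_or_ge d n with hd | hd
  · exact key (n - d) (d + 1) (by omega) (by omega)
  · have := finite_hasProjectiveDimensionLT n A hn M
    exact hasProjectiveDimensionLT_of_ge _ (n + 1) _ (by omega)

theorem free_of_ext_self_subsingleton (n : ℕ) (hn : ringKrullDim A = n)
    (h : ∀ j : ℕ, 1 ≤ j → j ≤ n → Subsingleton (Ext (ModuleCat.of A M) (ModuleCat.of A A) j)) :
    Module.Free A M :=
  free_of_projDimLT_one M (projDimLT_of_ext_vanish A M n hn 0 fun j h0 hj => h j h0 hj)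

theorem projectiveDimension_eq_iff (d : ℕ) :
    projectiveDimension (ModuleCat.of A M) = (d : WithBot ℕ∞) ↔
      ((∀ j : ℕ, d < j → Subsingleton (Ext (ModuleCat.of A M) (ModuleCat.of A A) j)) ∧
        Nontrivial (Ext (ModuleCat.of A M) (ModuleCat.of A A) d)) := by
  obtain ⟨n, hn⟩ := exists_nat_ringKrullDim A
  constructor
  · intro h
    have hle : HasProjectiveDimensionLT (ModuleCat.of A M) (d + 1) :=
      (projectiveDimension_le_iff _ _).mp h.le
    have hnot : ¬ HasProjectiveDimensionLT (ModuleCat.of A M) d := fun hlt => by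
      have := projectiveDimension_lt_iff.mpr hlt
      rw [h] at this; exact lt_irrefl _ this
    refine ⟨fun j hj => hle.subsingleton _ (d + 1) j hj _, ?_⟩
    rcases subsingleton_or_nontrivial (Ext (ModuleCat.of A M) (ModuleCat.of A A) d) with hs | hs
    · exact absurd (projDimLT_descend M d hle hs) hnot
    · exact hs
  · rintro ⟨h1, h2⟩
    have hle := projDimLT_of_ext_vanish A M n hn d fun j hj _ => h1 j hj
    refine le_antisymm ((projectiveDimension_le_iff _ _).mpr hle) ?_
    by_contra hlt
    have := projectiveDimension_lt_iff.mp (not_le.mp hlt)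
    exact not_subsingleton _ (this.subsingleton _ d d le_rfl (ModuleCat.of A A))

end Groth.Agent.RegLocal
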