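import Mathlib
import Groth.Agent.RegLocal.Basic
import Groth.Agent.RegLocal.GlobalDim
import Groth.Agent.RegLocal.Consequences

/-! A regular local ring is factorial (Auslander–Buchsbaum). -/

set_option autoImplicit false
universe u

namespace Groth.Agent.RegLocal

open IsLocalRing CategoryTheory TensorProduct

section Det

variable {S : Type u} [CommRing S]

/-- An ideal `I` with `I × S ^ m ≅ S ^ (m + 1)` is principal. -/
theorem isPrincipal_of_prod_equiv (I : Ideal S) {m : ℕ}
    (ψ : (Fin (m + 1) → S) ≃ₗ[S] I × (Fin m → S)) : Submodule.IsPrincipal I := by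
  classical
  let T : (Fin (m + 1) → S) →ₗ[S] (Fin (m + 1) → S) :=
    (Fin.consLinearEquiv S (fun _ : Fin (m + 1) => S)).toLinearMap ∘ₗ
      (LinearMap.prodMap I.subtype LinearMap.id) ∘ₗ ψ.toLinearMap
  let M := LinearMap.toMatrix' T
  have hM : ∀ v, M.mulVec v = T v := fun v => by
    rw [← Matrix.toLin'_apply, Matrix.toLin'_toMatrix']
  have hmem : ∀ v, (T v) 0 ∈ I := fun v => by simp [T]
  have hsurj : ∀ v : Fin (m + 1) → S, v 0 ∈ I → ∃ w, T w = v := fun v hv =>
    ⟨ψ.symm (⟨v 0, hv⟩, Fin.tail v), by
      ext j; refine Fin.cases ?_ ?_ j <;> simp [T, Fin.tail]⟩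
  refine ⟨⟨M.det, le_antisymm (fun i hi => ?_) ?_⟩⟩
  · let D : Fin (m + 1) → S := fun j => if j = 0 then i else 1
    have hcol : ∀ j, ∃ w, M.mulVec w = fun l => Matrix.diagonal D l j := fun j => by
      simp only [hM]
      refine hsurj _ ?_
      rcases eq_or_ne j 0 with rfl | hj
      · simpa [D] using hi
      · simp [Matrix.diagonal_apply_ne _ hj.symm]
    choose w hw using hcol
    have hMW : M * (Matrix.of fun l j => w j l) = Matrix.diagonal D := by
      ext l j
      exact congrFun (hw j) l
    have hdet := congrArg Matrix.det hMW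
    rw [Matrix.det_mul, Matrix.det_diagonal, Finset.prod_ite_eq' Finset.univ (0 : Fin (m + 1)) (fun _ => i),
      if_pos (Finset.mem_univ _)] at hdet
    exact Ideal.mem_span_singleton.2 ⟨_, hdet.symm⟩
  · rw [Submodule.span_le, Set.singleton_subset_iff, SetLike.mem_coe]
    have h := congrArg (fun N : Matrix (Fin (m + 1)) (Fin (m + 1)) S => N 0 0) M.mul_adjugate
    simp only [Matrix.smul_apply, Matrix.one_apply_eq, smul_eq_mul, mul_one] at h
    rw [← h]
    have h2 : (M * M.adjugate) 0 0 = M.mulVec (fun l => M.adjugate l 0) 0 := rfl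
    rw [h2, hM]
    exact hmem _

/-- A stably free nonzero ideal of a domain is principal. -/
theorem isPrincipal_of_isStablyFree [IsDomain S] (I : Ideal S) [Module.Finite S I] (hI : I ≠ ⊥)
    [Module.IsStablyFree S I] : Submodule.IsPrincipal I := by
  obtain ⟨N, _, _, _, _, _⟩ := Module.IsStablyFree.exist_free_prod S I
  set m := Module.finrank S N
  let eN : N ≃ₗ[S] (Fin m → S) := (Module.finBasis S N).equivFun
  obtain ⟨a, ha, ha0⟩ := Submodule.exists_mem_ne_zero_of_ne_bot hI
  let f : I × N →ₗ[S] S × N := LinearMap.prodMap I.subtype LinearMap.id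
  have hf : Function.Injective f := Function.Injective.prodMap I.injective_subtype Function.injective_id
  let g : S × N →ₗ[S] I × N := LinearMap.prodMap (LinearMap.toSpanSingleton S I ⟨a, ha⟩) LinearMap.id
  have hg : Function.Injective g := by
    rintro ⟨x, v⟩ ⟨y, w⟩ h
    have h1 : ((g (x, v)).1 : S) = ((g (y, w)).1 : S) := by rw [h]
    have h2 : (g (x, v)).2 = (g (y, w)).2 := by rw [h]
    simp [g] at h1 h2
    exact Prod.ext (h1.resolve_right ha0) h2
  have hrk : Module.finrank S (I × N) = m + 1 := by
    have h1 := LinearMap.finrank_le_finrank_of_injective hf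
    have h2 := LinearMap.finrank_le_finrank_of_injective hg
    rw [Module.finrank_prod (R := S) (M := S) (M' := N), Module.finrank_self] at h1 h2
    omega
  exact isPrincipal_of_prod_equiv I (((Module.finBasisOfFinrankEq S (I × N) hrk).equivFun.symm).trans
    ((LinearEquiv.refl S I).prodCongr eN))

end Det

/-- Finite projective dimension descends to stable freeness after base change. -/
theorem isStablyFree_baseChange {R : Type u} [CommRing R] [IsNoetherianRing R] [IsLocalRing R]
    (S : Type u) [CommRing S] [Algebra R S] [Module.Flat R S] :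
    ∀ (n : ℕ) (M : Type u) [AddCommGroup M] [Module R M] [Module.Finite R M],
      HasProjectiveDimensionLT (ModuleCat.of R M) (n + 1) → Module.Projective S (S ⊗[R] M) →
      Module.IsStablyFree S (S ⊗[R] M) := by
  intro n
  induction n with
  | zero =>
    intro M _ _ _ h _
    have hp : Module.Projective R M := (IsProjective.iff_projective (R := R) M).mpr inferInstance
    haveI : Module.FinitePresentation R M := Module.finitePresentation_of_finite _ _
    haveI := Module.free_of_flat_of_isLocalRing (R := R) (P := M)
    infer_instance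
  | succ n ih =>
    intro M _ _ _ h hproj
    obtain ⟨m, f, hf⟩ := Module.Finite.exists_fin' R M
    have hS := LinearMap.shortExact_shortComplexKer hf
    have hK : HasProjectiveDimensionLT (ModuleCat.of R (LinearMap.ker f)) (n + 1) :=
      (hS.hasProjectiveDimensionLT_X₃_iff n ((IsProjective.iff_projective _).mp inferInstance)).mp h
    let i' := (LinearMap.ker f).subtype.baseChange S
    let f' := f.baseChange S
    have hi' : Function.Injective i' := Module.Flat.lTensor_preserves_injective_linearMap _ (LinearMap.ker f).injective_subtype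
    have hex : Function.Exact i' f' := lTensor_exact S (LinearMap.exact_subtype_ker_map f) hf
    have hf' : Function.Surjective f' := LinearMap.lTensor_surjective S hf
    obtain ⟨l, hl⟩ := Module.projective_lifting_property f' LinearMap.id hf'
    obtain ⟨e, -⟩ := hex.splitSurjectiveEquiv hi' ⟨l, hl⟩
    haveI hKp : Module.Projective S (S ⊗[R] LinearMap.ker f) :=
      Module.Projective.of_split (e.symm.toLinearMap ∘ₗ LinearMap.inl S _ _) (LinearMap.fst S _ _ ∘ₗ e.toLinearMap)
        (LinearMap.ext fun x => by simp)
    haveI := ih (LinearMap.ker f) hK hKp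
    obtain ⟨N, _, _, _, _, _⟩ := Module.IsStablyFree.exist_free_prod S (S ⊗[R] LinearMap.ker f)
    haveI : Module.Finite R (LinearMap.ker f) := inferInstance
    haveI : Module.Free S (((S ⊗[R] LinearMap.ker f) × N) × (S ⊗[R] M)) :=
      Module.Free.of_equiv (((e.prodCongr (LinearEquiv.refl S N)).trans
        (LinearEquiv.prodAssoc S _ _ _)).trans (((LinearEquiv.refl S _).prodCongr (LinearEquiv.prodComm S _ _)).trans
          (LinearEquiv.prodAssoc S _ _ _).symm))
    exact Module.IsStablyFree.of_free_prod' S (S ⊗[R] M) ((S ⊗[R] LinearMap.ker f) × N)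

theorem exists_prime_mem : ∀ (d : ℕ) (R : Type u) [CommRing R] [IsRegularLocalRing R],
    ringKrullDim R = d → ∀ P : Ideal R, P.IsPrime → P ≠ ⊥ → ∃ q ∈ P, Prime q := by
  intro d
  induction d using Nat.strong_induction_on with
  | _ d ih =>
    intro R _ _ hd P hPp hP0
    haveI := isDomain R
    obtain ⟨a, haP, ha0⟩ := Submodule.exists_mem_ne_zero_of_ne_bot hP0
    obtain ⟨Q, hQmin, hQP⟩ := Ideal.exists_minimalPrimes_le (I := Ideal.span {a}) (J := P)
      ((Ideal.span_singleton_le_iff_mem _).2 haP)
    haveI : Q.IsPrime := hQmin.1.1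
    have haQ : a ∈ Q := hQmin.1.2 (Ideal.mem_span_singleton_self a)
    have hQ0 : Q ≠ ⊥ := fun h => ha0 (by simpa [h] using haQ)
    suffices ∃ q ∈ Q, Prime q from this.imp fun q hq => ⟨hQP hq.1, hq.2⟩
    have hQh : Q.height ≤ 1 := Ideal.height_le_one_of_isPrincipal_of_mem_minimalPrimes (Ideal.span {a}) Q hQmin
    have hQmin' : ∀ Q' : Ideal R, Q'.IsPrime → Q' ≠ ⊥ → Q' ≤ Q → Q' = Q := by
      intro Q' hQ' hQ'0 hle
      by_contra hne
      haveI := hQ'
      haveI : (⊥ : Ideal R).IsPrime := Ideal.isPrime_bot
      have h1 := Ideal.height_strict_mono_of_isPrime_of_isPrime (bot_lt_iff_ne_bot.2 hQ'0)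
      have h2 := Ideal.height_strict_mono_of_isPrime_of_isPrime (lt_of_le_of_ne hle hne)
      exact absurd (lt_of_lt_of_le h2 hQh) (not_lt.2 (Order.one_le_iff_pos.2 (pos_of_gt h1)))
    obtain ⟨x, hxm, hx2⟩ : ∃ x ∈ maximalIdeal R, x ∉ maximalIdeal R ^ 2 := by
      by_contra! h
      have hbot : maximalIdeal R = ⊥ :=
        Submodule.eq_bot_of_le_smul_of_le_jacobson_bot _ _ (maximalIdeal R).fg_of_isNoetherianRing
          (by rw [smul_eq_mul, ← sq]; exact h) (maximalIdeal_le_jacobson _)
      exact hQ0 (le_bot_iff.1 (hbot ▸ IsLocalRing.le_maximalIdeal (Ideal.IsPrime.ne_top inferInstance)))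
    have hx0 : x ≠ 0 := fun h => hx2 (h ▸ zero_mem _)
    have hxprime : Prime x := by
      obtain ⟨hR', -, -⟩ := quot_singleton R hd hxm hx2
      haveI := isDomain (R ⧸ Ideal.span ({x} : Set R))
      exact (Ideal.span_singleton_prime hx0).1 ((Ideal.Quotient.isDomain_iff_prime _).1 inferInstance)
    by_cases hxQ : x ∈ Q
    · exact ⟨x, hxQ, hxprime⟩
    -- invert `x`
    let S := Localization.Away x
    have hpow : Submonoid.powers x ≤ nonZeroDivisors R := powers_le_nonZeroDivisors_of_noZeroDivisors hx0
    haveI : IsDomain S := IsLocalization.isDomain_localization hpow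
    let J := Q.map (algebraMap R S)
    haveI : IsNoetherianRing S := IsLocalization.isNoetherianRing (Submonoid.powers x) S inferInstance
    have hJ0 : J ≠ ⊥ := fun h => by
      have h2 : algebraMap R S a = 0 := by simpa [J, h] using (Ideal.mem_map_of_mem (algebraMap R S) haQ : _ ∈ J)
      exact ha0 (IsLocalization.injective S hpow (h2.trans (map_zero _).symm))
    have hlocal : ∀ (M : Ideal S) [M.IsMaximal], Submodule.IsPrincipal (J.map (algebraMap S (Localization.AtPrime M))) := by
      intro M _
      let p := M.comap (algebraMap R S)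
      have hxp : x ∉ p := fun hxp => (inferInstance : M.IsPrime).ne_top
        (Ideal.eq_top_of_isUnit_mem _ hxp (IsLocalization.Away.algebraMap_isUnit x))
      let L := Localization.AtPrime M
      haveI : IsLocalization.AtPrime L p :=
        IsLocalization.isLocalization_isLocalization_atPrime_isLocalization (Submonoid.powers x) L M
      haveI := isRegularLocalRing_localization R p
      haveI hreg : IsRegularLocalRing L :=
        IsRegularLocalRing.of_ringEquiv (IsLocalization.algEquiv p.primeCompl (Localization.AtPrime p) L).toRingEquiv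
      haveI := isDomain L
      obtain ⟨e, he⟩ := exists_nat_ringKrullDim L
      have hed : e < d := by
        have h1 : p < maximalIdeal R := lt_of_le_of_ne (IsLocalRing.le_maximalIdeal (Ideal.IsPrime.ne_top inferInstance))
          fun h => hxp (h ▸ hxm)
        have h2 := Ideal.height_strict_mono_of_isPrime_of_isPrime h1
        have h3 : (p.height : WithBot ℕ∞) = e := (IsLocalization.AtPrime.ringKrullDim_eq_height p L).symm.trans he
        have h4 : ((maximalIdeal R).height : WithBot ℕ∞) = d := IsLocalRing.maximalIdeal_height_eq_ringKrullDim.trans hd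
        rw [← WithBot.coe_lt_coe, h3, h4] at h2
        exact_mod_cast h2
      rw [Ideal.map_map, ← IsScalarTower.algebraMap_eq R S L]
      by_cases hQp : Q ≤ p
      swap
      · obtain ⟨r, hrQ, hrp⟩ := SetLike.not_le_iff_exists.1 hQp
        rw [Ideal.eq_top_of_isUnit_mem _ (Ideal.mem_map_of_mem _ hrQ)
          (IsLocalization.map_units L (⟨r, hrp⟩ : p.primeCompl))]
        exact top_isPrincipal
      have hdisj : Disjoint (p.primeCompl : Set R) (Q : Set R) := by
        rw [Set.disjoint_left]; exact fun r hr hrQ => hr (hQp hrQ)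
      haveI hQL : (Q.map (algebraMap R L)).IsPrime :=
        IsLocalization.isPrime_of_isPrime_disjoint p.primeCompl L Q inferInstance hdisj
      have hcomap : (Q.map (algebraMap R L)).comap (algebraMap R L) = Q :=
        IsLocalization.comap_map_of_isPrime_disjoint p.primeCompl L ‹Q.IsPrime› hdisj
      have hQL0 : Q.map (algebraMap R L) ≠ ⊥ := fun h => hQ0 (by
        rw [← hcomap, h]
        exact Ideal.comap_bot_of_injective _ (IsLocalization.injective L p.primeCompl_le_nonZeroDivisors))
      obtain ⟨q, hq, hqp⟩ := ih e hed L he _ hQL hQL0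
      have hspan : (Ideal.span {q}).IsPrime := (Ideal.span_singleton_prime hqp.ne_zero).2 hqp
      have hle : Ideal.span {q} ≤ Q.map (algebraMap R L) := (Ideal.span_singleton_le_iff_mem _).2 hq
      have heq : (Ideal.span {q}).comap (algebraMap R L) = Q := by
        refine hQmin' _ inferInstance (fun h => ?_) ((Ideal.comap_mono hle).trans_eq hcomap)
        have := congrArg (Ideal.map (algebraMap R L)) h
        rw [IsLocalization.map_comap p.primeCompl L, Ideal.map_bot, Ideal.span_singleton_eq_bot] at this
        exact hqp.ne_zero this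
      have := congrArg (Ideal.map (algebraMap R L)) heq
      rw [IsLocalization.map_comap p.primeCompl L] at this
      exact ⟨⟨q, this.symm⟩⟩
    haveI : Module.Finite S J := inferInstance
    haveI : Module.FinitePresentation S J := Module.finitePresentation_of_finite _ _
    haveI : Module.Flat S J := by
      refine Module.flat_of_isLocalized_maximal S J (fun M _ => ↥(J.map (algebraMap S (Localization.AtPrime M))))
        (fun M _ => Algebra.idealMap J (S := Localization.AtPrime M)) fun M _ => ?_
      obtain ⟨g, hg⟩ := (hlocal M).principal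
      haveI : Module.Flat (Localization.AtPrime M) ↥(J.map (algebraMap S (Localization.AtPrime M))) := by
        rw [hg]
        by_cases hg0 : g = 0
        · rw [hg0]
          haveI : Subsingleton ↥(Submodule.span (Localization.AtPrime M) ({0} : Set (Localization.AtPrime M))) := by
            rw [Submodule.span_singleton_eq_bot.2 rfl]; infer_instance
          infer_instance
        · haveI : IsDomain (Localization.AtPrime M) := IsLocalization.isDomain_localization M.primeCompl_le_nonZeroDivisors
          exact Module.Flat.of_linearEquiv (LinearEquiv.toSpanNonzeroSingleton (Localization.AtPrime M) _ g hg0).symm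
      exact Module.Flat.trans S (Localization.AtPrime M) _
    haveI : Module.Projective S J := Module.Flat.projective_of_finitePresentation
    let eJ : S ⊗[R] Q ≃ₗ[S] J :=
      (IsLocalizedModule.isBaseChange (Submonoid.powers x) S (Algebra.idealMap (S := S) Q)).equiv
    haveI : Module.Projective S (S ⊗[R] Q) := Module.Projective.of_equiv eJ.symm
    haveI := isStablyFree_baseChange S d Q (finite_hasProjectiveDimensionLT d R hd Q) inferInstance
    haveI : Module.IsStablyFree S J := Module.IsStablyFree.equiv eJ
    obtain ⟨g, hg⟩ := (isPrincipal_of_isStablyFree J hJ0).principal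
    -- clear the denominator of the generator
    obtain ⟨⟨⟨q₀, hq₀⟩, ⟨s, hs⟩⟩, hqs⟩ := (IsLocalization.mem_map_algebraMap_iff (Submonoid.powers x) S).1
      (show g ∈ J by rw [hg]; exact Submodule.mem_span_singleton_self g)
    dsimp only at hqs
    have hu : IsUnit (algebraMap R S s) := IsLocalization.map_units S (⟨s, hs⟩ : Submonoid.powers x)
    have hg0 : g ≠ 0 := fun h => hJ0 (by rw [hg, h, Submodule.span_singleton_eq_bot])
    have hq₀0 : q₀ ≠ 0 := fun h => hg0 (hu.mul_left_eq_zero.1 (by rw [hqs, h, map_zero]))
    obtain ⟨k, q, hxq, rfl⟩ := WfDvdMonoid.max_power_factor hq₀0 hxprime.irreducible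
    have hqQ : q ∈ Q := ((inferInstance : Q.IsPrime).mem_or_mem hq₀).resolve_left
      fun h => hxQ (Ideal.IsPrime.mem_of_pow_mem inferInstance k h)
    have hJq : J = Ideal.span {algebraMap R S q} := by
      rw [hg]
      refine le_antisymm ?_ ?_
      · rw [Submodule.span_le, Set.singleton_subset_iff, SetLike.mem_coe, Ideal.mem_span_singleton,
          ← hu.dvd_mul_right, hqs, map_mul]
        exact dvd_mul_left _ _
      · rw [Ideal.span_singleton_le_iff_mem, ← hg]
        exact Ideal.mem_map_of_mem _ hqQ
    have hQq : Q = Ideal.span {q} := by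
      refine le_antisymm (fun r hr => ?_) ((Ideal.span_singleton_le_iff_mem _).2 hqQ)
      have h : algebraMap R S r ∈ J := Ideal.mem_map_of_mem _ hr
      rw [hJq, Ideal.mem_span_singleton] at h
      obtain ⟨z, hz⟩ := h
      obtain ⟨j, c, hc⟩ : ∃ j c, z * algebraMap R S (x ^ j) = algebraMap R S c := by
        obtain ⟨⟨c, ⟨_, j, rfl⟩⟩, hc⟩ := IsLocalization.surj (Submonoid.powers x) z
        exact ⟨j, c, hc⟩
      have h2 : r * x ^ j = q * c := IsLocalization.injective S hpow (by
        rw [map_mul, map_mul, hz, mul_assoc, hc])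
      obtain ⟨t, ht⟩ := hxprime.pow_dvd_of_dvd_mul_left j hxq ⟨r, by rw [← h2, mul_comm]⟩
      rw [Ideal.mem_span_singleton]
      refine ⟨t, mul_right_cancel₀ (pow_ne_zero j hx0) ?_⟩
      rw [h2, ht]; ring
    have hq0 : q ≠ 0 := fun h => hQ0 (by rw [hQq, h, Ideal.span_singleton_eq_bot])
    exact ⟨q, hqQ, (Ideal.span_singleton_prime hq0).1 (hQq ▸ inferInstance)⟩

/-- A regular local ring is a unique factorisation domain. -/
theorem ufd (R : Type u) [CommRing R] [IsRegularLocalRing R] [IsDomain R] : UniqueFactorizationMonoid R := by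
  obtain ⟨d, hd⟩ := exists_nat_ringKrullDim R
  exact UniqueFactorizationMonoid.iff_exists_prime_mem_of_isPrime.2 fun P h₁ h₂ =>
    exists_prime_mem d R hd P h₂ h₁

end Groth.Agent.RegLocal
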