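import Mathlib
import Groth.Agent.RegLocal.Complete

/-! Completions of noetherian local rings along a proper ideal. -/

set_option autoImplicit false
universe u

namespace Groth.Agent.RegLocal

open IsLocalRing

variable (A : Type u) [CommRing A] [IsLocalRing A] [IsNoetherianRing A] (I : Ideal A)

instance isNoetherianRing_completion : IsNoetherianRing (AdicCompletion I A) :=
  isNoetherianRing_adicCompletion I I.fg_of_isNoetherianRing

theorem isLocalRing_completion (hI : I ≠ ⊤) : IsLocalRing (AdicCompletion I A) := by
  have fg := I.fg_of_isNoetherianRing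
  have hmax := AdicCompletion.isMaximal_map_of_le I (maximalIdeal A) (le_maximalIdeal hI) fg
  have hc := AdicCompletion.isAdicComplete_self I fg
  refine IsLocalRing.of_unique_max_ideal ⟨_, hmax, fun J hJ => ?_⟩
  have hIJ : I.map (algebraMap A (AdicCompletion I A)) ≤ J :=
    (IsAdicComplete.le_jacobson_bot _).trans <| sInf_le ⟨bot_le, hJ⟩
  refine hJ.eq_of_le hmax.ne_top fun x hx => ?_
  set g := (AdicCompletion.evalOneₐ I).toRingHom
  have hg : Function.Surjective g := AdicCompletion.evalOneₐ_surjective I
  have hJ' : J.map g ≠ ⊤ := fun h => by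
    have := Ideal.comap_map_of_surjective' g hg J
    rw [h, Ideal.comap_top, AdicCompletion.ker_evalOneₐ_eq_map I fg, sup_eq_left.mpr hIJ] at this
    exact hJ.ne_top this.symm
  obtain ⟨a, ha⟩ := Ideal.Quotient.mk_surjective (g x)
  have ham : a ∈ maximalIdeal A := by
    by_contra hu
    have hu' : IsUnit a := by simpa using hu
    exact hJ' (Ideal.eq_top_of_isUnit_mem _ (Ideal.mem_map_of_mem g hx)
      (ha ▸ hu'.map (Ideal.Quotient.mk I)))
  have hker : x - algebraMap A (AdicCompletion I A) a ∈ RingHom.ker g := by
    rw [RingHom.mem_ker, map_sub, ← ha, sub_eq_zero]; rfl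
  rw [AdicCompletion.ker_evalOneₐ_eq_map I fg] at hker
  have h1 := Ideal.map_mono (f := algebraMap A (AdicCompletion I A)) (le_maximalIdeal hI) hker
  rw [show x = (x - algebraMap A _ a) + algebraMap A _ a by ring]
  exact add_mem h1 (Ideal.mem_map_of_mem _ ham)

theorem maximalIdeal_completion (hI : I ≠ ⊤) :
    haveI := isLocalRing_completion A I hI
    maximalIdeal (AdicCompletion I A) = (maximalIdeal A).map (algebraMap A (AdicCompletion I A)) :=
  haveI := isLocalRing_completion A I hI
  (eq_maximalIdeal (AdicCompletion.isMaximal_map_of_le I (maximalIdeal A) (le_maximalIdeal hI)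
    I.fg_of_isNoetherianRing)).symm

theorem faithfullyFlat_completion (hI : I ≠ ⊤) : Module.FaithfullyFlat A (AdicCompletion I A) := by
  have := isLocalRing_completion A I hI
  have : IsLocalHom (algebraMap A (AdicCompletion I A)) := by
    refine ((local_hom_TFAE _).out 0 2).mpr ?_
    rw [maximalIdeal_completion A I hI]
  exact Module.FaithfullyFlat.of_flat_of_isLocalHom

theorem ringKrullDim_completion (hI : I ≠ ⊤) :
    ringKrullDim (AdicCompletion I A) = ringKrullDim A := by
  have := isLocalRing_completion A I hI
  have hmax := maximalIdeal_completion A I hI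
  have : (maximalIdeal (AdicCompletion I A)).LiesOver (maximalIdeal A) := by
    refine ⟨(maximalIdeal.isMaximal A).eq_of_le ?_ ?_⟩
    · exact ((maximalIdeal.isMaximal _).isPrime.comap _).ne_top
    · rw [hmax]; exact Ideal.le_comap_map
  have h := Ideal.height_eq_height_add_of_liesOver_of_hasGoingDown (maximalIdeal A)
    (maximalIdeal (AdicCompletion I A))
  have h0 : ((maximalIdeal (AdicCompletion I A)).map
      (Ideal.Quotient.mk ((maximalIdeal A).map (algebraMap A (AdicCompletion I A))))).height = 0 := by
    rw [← hmax, Ideal.map_quotient_self]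
    have : Nontrivial (AdicCompletion I A ⧸ maximalIdeal (AdicCompletion I A)) :=
      Ideal.Quotient.nontrivial_iff.mpr (maximalIdeal.isMaximal _).ne_top
    exact Ideal.height_bot
  rw [h0, add_zero] at h
  rw [← maximalIdeal_height_eq_ringKrullDim, ← maximalIdeal_height_eq_ringKrullDim, h]

theorem spanFinrank_maximalIdeal_completion (hI : I ≠ ⊤) :
    haveI := isLocalRing_completion A I hI
    (maximalIdeal (AdicCompletion I A)).spanFinrank = (maximalIdeal A).spanFinrank := by
  classical
  have := isLocalRing_completion A I hI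
  have hmax := maximalIdeal_completion A I hI
  have fgm := (maximalIdeal A).fg_of_isNoetherianRing
  refine le_antisymm (hmax ▸ Ideal.spanFinrank_map_le_of_fg _ fgm) ?_
  have hle : I ^ 2 ≤ maximalIdeal A ^ 2 := Ideal.pow_right_mono (le_maximalIdeal hI) 2
  let g : AdicCompletion I A →+* A ⧸ maximalIdeal A ^ 2 :=
    (Ideal.Quotient.factor hle).comp (AdicCompletion.evalₐ I 2).toRingHom
  have hg : g.comp (algebraMap A (AdicCompletion I A)) = Ideal.Quotient.mk _ := by
    refine RingHom.ext fun a => ?_
    simp [g]
  obtain ⟨s, hs, hsp⟩ := Submodule.FG.exists_span_finset_card_eq_spanFinrank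
    (maximalIdeal (AdicCompletion I A)).fg_of_isNoetherianRing
  choose t ht using fun x : AdicCompletion I A => Ideal.Quotient.mk_surjective (g x)
  have hgm : (Ideal.span (s : Set (AdicCompletion I A))).map g =
      (maximalIdeal A).map (Ideal.Quotient.mk (maximalIdeal A ^ 2)) := by
    rw [show Ideal.span (s : Set (AdicCompletion I A)) = _ from hsp, hmax, Ideal.map_map, hg]
  have htm : ∀ x ∈ s, t x ∈ maximalIdeal A := fun x hx => by
    have : g x ∈ (maximalIdeal A).map (Ideal.Quotient.mk (maximalIdeal A ^ 2)) :=
      hgm ▸ Ideal.mem_map_of_mem _ (Ideal.subset_span hx)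
    obtain ⟨b, hb, hbx⟩ := (Ideal.mem_map_iff_of_surjective _ Ideal.Quotient.mk_surjective).mp this
    rw [← ht, Ideal.Quotient.eq] at hbx
    rw [show t x = b - (b - t x) by ring]
    exact sub_mem hb (Ideal.pow_le_self two_ne_zero hbx)
  have hgen : maximalIdeal A = Ideal.span (t '' (s : Set (AdicCompletion I A))) := by
    refine le_antisymm ?_ (Ideal.span_le.mpr (by rintro _ ⟨x, hx, rfl⟩; exact htm x hx))
    refine Submodule.le_of_le_smul_of_le_jacobson_bot fgm (maximalIdeal_le_jacobson _) ?_
    intro a ha
    have : Ideal.Quotient.mk _ a ∈ (Ideal.span (t '' (s : Set (AdicCompletion I A)))).map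
        (Ideal.Quotient.mk (maximalIdeal A ^ 2)) := by
      rw [Ideal.map_span, ← Set.image_comp, show (Ideal.Quotient.mk _ ∘ t) = g from funext ht,
        ← Ideal.map_span, hgm]
      exact Ideal.mem_map_of_mem _ ha
    obtain ⟨b, hb, hba⟩ := (Ideal.mem_map_iff_of_surjective _ Ideal.Quotient.mk_surjective).mp this
    rw [Ideal.Quotient.eq, sq] at hba
    rw [show a = b - (b - a) by ring]
    exact sub_mem (Submodule.mem_sup_left hb) (Submodule.mem_sup_right hba)
  conv_lhs => rw [hgen]
  exact (Submodule.spanFinrank_span_le_ncard_of_finite (Set.toFinite _)).trans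
    ((Set.ncard_image_le (Set.toFinite _)).trans_eq (by rw [Set.ncard_coe_finset, hs]))

theorem isRegularLocalRing_completion_iff (hI : I ≠ ⊤) :
    IsRegularLocalRing A ↔ IsRegularLocalRing (AdicCompletion I A) := by
  have := isLocalRing_completion A I hI
  rw [isRegularLocalRing_iff, isRegularLocalRing_iff, spanFinrank_maximalIdeal_completion A I hI,
    ringKrullDim_completion A I hI]

end Groth.Agent.RegLocal
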